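import Cfsg.Agent.Lib.Known.SpBounded.Good

/-!
# The relations determine the symplectic group
-/

set_option autoImplicit false

namespace CfsgLib.Known.SpBounded

open Matrix (SpecialLinearGroup fromBlocks)
open CfsgLib.Known.ClassicalSections (leviSp)
open scoped Matrix

variable {F : Type*} [Field F] {k : ℕ}

theorem pad_neg (d : F) (M : Matrix (Fin k) (Fin k) F) : -pad d M = pad (-d) (-M) := by
  apply pad_ext <;> intros <;> simp

theorem pad_one_add_single (i : Fin k) (x : F) :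
    pad 1 (1 + Matrix.single i i x) = 1 + Matrix.single i.succ i.succ x := by
  apply pad_ext <;> intros <;>
    simp [Matrix.one_apply, Matrix.single, Fin.succ_ne_zero, (Fin.succ_ne_zero _).symm]

theorem pad_zero_single (i : Fin k) (x : F) :
    pad 0 (Matrix.single i i x) = Matrix.single i.succ i.succ x := by
  apply pad_ext <;> intros <;>
    simp [Matrix.single, Fin.succ_ne_zero, (Fin.succ_ne_zero _).symm]

theorem pad_mulVec_ev (d : F) (M : Matrix (Fin k) (Fin k) F) : (pad d M).mulVec (ev k F) = d • ev k F := by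
  funext i
  rw [mulVec_ev]
  cases i using Fin.cases <;> simp [ev, Pi.single_apply, Fin.succ_ne_zero]

theorem bs_rowSL (B : SpecialLinearGroup (Fin k) F) (r : Fin k → F) :
    bs k F B * rowSL r * (bs k F B)⁻¹ = rowSL (r ᵥ* (B⁻¹).1) := by
  rw [mul_inv_eq_iff_eq_mul]
  refine Subtype.ext ?_
  rw [Matrix.SpecialLinearGroup.coe_mul, Matrix.SpecialLinearGroup.coe_mul, coe_bs, coe_rowSL, coe_rowSL]
  have h : ((B⁻¹).1 * B.1) = 1 := by
    rw [← Matrix.SpecialLinearGroup.coe_mul, inv_mul_cancel, Matrix.SpecialLinearGroup.coe_one]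
  apply pad_ext <;> intros <;> simp [Matrix.mul_apply, Fin.sum_univ_succ]
  rename_i b
  have e := congrFun (Matrix.vecMul_vecMul r (B⁻¹).1 B.1) b
  rw [h, Matrix.vecMul_one] at e
  exact e.symm

theorem rowSL_inv (r : Fin k → F) : (rowSL r)⁻¹ = rowSL (-r) :=
  inv_eq_of_mul_eq_one_right (by rw [← rowSL_add, add_neg_cancel, rowSL_zero])

/-- supported on the first row and column -/
def RowSupp (M : Matrix (Fin (k + 1)) (Fin (k + 1)) F) : Prop := ∀ a b : Fin k, M a.succ b.succ = 0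

theorem RowSupp.conj {M : Matrix (Fin (k + 1)) (Fin (k + 1)) F} (h : RowSupp M) (r : Fin k → F) :
    RowSupp ((rowSL r).1 * M * (rowSL r).1.transpose) := fun a b => by
  rw [coe_rowSL]
  simp [Matrix.mul_apply, Fin.sum_univ_succ, Matrix.transpose_apply, h _ _]

theorem RowSupp.conj_bs {M : Matrix (Fin (k + 1)) (Fin (k + 1)) F} (h : RowSupp M)
    (B : SpecialLinearGroup (Fin k) F) : RowSupp ((bs k F B).1 * M * (bs k F B).1.transpose) := fun a b => by
  rw [coe_bs]
  simp [Matrix.mul_apply, Fin.sum_univ_succ, Matrix.transpose_apply, h _ _]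

theorem rowSupp_sub (M : Matrix (Fin (k + 1)) (Fin (k + 1)) F) (r : Fin k → F) :
    RowSupp ((rowSL r).1 * M * (rowSL r).1.transpose + -M) := fun a b => by
  rw [coe_rowSL]
  simp [Matrix.mul_apply, Fin.sum_univ_succ, Matrix.transpose_apply]

theorem rowSupp_eq {M : Matrix (Fin (k + 1)) (Fin (k + 1)) F} (hM : M.IsSymm) (h : RowSupp M) :
    M = ∑ j, Sm 0 j (M 0 j) := by
  have hc : ∀ a, M a 0 = M 0 a := fun a => hM.apply 0 a
  ext a b
  rw [Matrix.sum_apply, Fin.sum_univ_succ]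
  cases a using Fin.cases <;> cases b using Fin.cases <;>
    simp [Sm_apply, Fin.succ_ne_zero, (Fin.succ_ne_zero _).symm, hc, h _ _]

/-- the symplectic group one size down -/
def embM (M : Matrix (Fin k ⊕ Fin k) (Fin k ⊕ Fin k) F) :
    Matrix (Fin (k + 1) ⊕ Fin (k + 1)) (Fin (k + 1) ⊕ Fin (k + 1)) F :=
  fromBlocks (pad 1 M.toBlocks₁₁) (pad 0 M.toBlocks₁₂) (pad 0 M.toBlocks₂₁) (pad 1 M.toBlocks₂₂)

theorem embM_fromBlocks (A B C D : Matrix (Fin k) (Fin k) F) :
    embM (fromBlocks A B C D) = fromBlocks (pad 1 A) (pad 0 B) (pad 0 C) (pad 1 D) := by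
  simp [embM]

theorem embM_mul (M N : Matrix (Fin k ⊕ Fin k) (Fin k ⊕ Fin k) F) : embM (M * N) = embM M * embM N := by
  obtain ⟨A, B, C, D, rfl⟩ : ∃ A B C D, M = fromBlocks A B C D := ⟨_, _, _, _, (Matrix.fromBlocks_toBlocks M).symm⟩
  obtain ⟨A', B', C', D', rfl⟩ : ∃ A B C D, N = fromBlocks A B C D :=
    ⟨_, _, _, _, (Matrix.fromBlocks_toBlocks N).symm⟩
  simp [Matrix.fromBlocks_multiply, embM_fromBlocks, pad_mul, pad_add]

theorem embM_one : embM (1 : Matrix (Fin k ⊕ Fin k) (Fin k ⊕ Fin k) F) = 1 := by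
  rw [← Matrix.fromBlocks_one, embM_fromBlocks, pad_one, pad_zero, Matrix.fromBlocks_one]

theorem embM_mem {M : Matrix (Fin k ⊕ Fin k) (Fin k ⊕ Fin k) F} (hM : M ∈ Matrix.symplecticGroup (Fin k) F) :
    embM M ∈ Matrix.symplecticGroup (Fin (k + 1)) F := by
  obtain ⟨A, B, C, D, rfl⟩ : ∃ A B C D, M = fromBlocks A B C D := ⟨_, _, _, _, (Matrix.fromBlocks_toBlocks M).symm⟩
  rw [SymplecticGroup.mem_iff] at hM ⊢
  rw [embM_fromBlocks]
  have e0 : (0 : Matrix (Fin (k + 1)) (Fin (k + 1)) F) = pad 0 0 := pad_zero.symm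
  have e1 : (-1 : Matrix (Fin (k + 1)) (Fin (k + 1)) F) = pad (-1) (-1) := by rw [← pad_neg, pad_one]
  simp only [Matrix.J, Matrix.fromBlocks_transpose, Matrix.fromBlocks_multiply, Matrix.fromBlocks_inj] at hM ⊢
  rw [e1, e0, ← pad_one]
  simp only [pad_transpose, pad_mul, pad_add]
  obtain ⟨h1, h2, h3, h4⟩ := hM
  rw [h1, h2, h3, h4]
  simp

/-- the embedding -/
def emb (k : ℕ) (F : Type*) [Field F] : Matrix.symplecticGroup (Fin k) F →* Matrix.symplecticGroup (Fin (k + 1)) F where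
  toFun A := ⟨embM A.1, embM_mem A.2⟩
  map_one' := Subtype.ext embM_one
  map_mul' A B := Subtype.ext (embM_mul A.1 B.1)

theorem emb_injective : Function.Injective (emb k F) := fun A B h => Subtype.ext (by
  have h' : embM A.1 = embM B.1 := congrArg Subtype.val h
  ext i j
  have key := fun a b => congrFun (congrFun h' a) b
  rcases i with i | i <;> rcases j with j | j
  · simpa [embM, Matrix.toBlocks₁₁] using key (Sum.inl i.succ) (Sum.inl j.succ)
  · simpa [embM, Matrix.toBlocks₁₂] using key (Sum.inl i.succ) (Sum.inr j.succ)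
  · simpa [embM, Matrix.toBlocks₂₁] using key (Sum.inr i.succ) (Sum.inl j.succ)
  · simpa [embM, Matrix.toBlocks₂₂] using key (Sum.inr i.succ) (Sum.inr j.succ))

theorem emb_levi (B : SpecialLinearGroup (Fin k) F) : emb k F (leviSp k B) = leviSp (k + 1) (bs k F B) := by
  refine Subtype.ext ?_
  show embM _ = _
  rw [coe_leviSp, coe_leviSp, embM_fromBlocks, pad_zero, iot_bs, coe_bs, coe_bs]

theorem emb_s2 (i : Fin k) (M : SpecialLinearGroup (Fin 2) F) : emb k F (s2 i M) = s2 i.succ M := by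
  refine Subtype.ext ?_
  show embM _ = _
  rw [coe_s2, coe_s2, s2m, s2m, embM_fromBlocks, pad_one_add_single, pad_one_add_single, pad_zero_single,
    pad_zero_single]

theorem emb_fix_left (A : Matrix.symplecticGroup (Fin k) F) : (emb k F A).1.mulVec (ev2 k F) = ev2 k F := by
  show (embM A.1).mulVec _ = _
  simp [embM, ev2, Matrix.fromBlocks_mulVec, pad_mulVec_ev]

theorem emb_fix_right (A : Matrix.symplecticGroup (Fin k) F) :
    (emb k F A).1.mulVec (Sum.elim (0 : Fin (k + 1) → F) (ev k F)) = Sum.elim (0 : Fin (k + 1) → F) (ev k F) := by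
  show (embM A.1).mulVec _ = _
  simp [embM, Matrix.fromBlocks_mulVec, pad_mulVec_ev]

namespace Pre

variable {G : Type*} [Group G]

/-- the relations one size down -/
def tail (R : Pre F (k + 1) G) : Pre F k G where
  ψ := R.ψ.comp (bs k F)
  φ i := R.φ i.succ
  fix i a b h h1 h2 M t := by
    simp only [MonoidHom.comp_apply, bs_tA]
    exact R.fix _ _ _ _ (fun e => h1 (Fin.succ_inj.1 e)) (fun e => h2 (Fin.succ_inj.1 e)) _ _
  long i j h M N := R.long _ _ (fun e => h (Fin.succ_inj.1 e)) _ _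
  tor i j h c hc := by
    simp only [MonoidHom.comp_apply, bs_diag]
    exact R.tor _ _ _ c hc
  nrm i j h c hc t := by
    simp only [MonoidHom.comp_apply, bs_tA]
    exact R.nrm _ _ _ c hc t
  nrm' i j h c hc t := by
    simp only [MonoidHom.comp_apply, bs_tA]
    exact R.nrm' _ _ _ c hc t
  fx i j h s t := by
    simp only [MonoidHom.comp_apply, bs_tA]
    exact R.fx _ _ _ s t
  fx' i j h s t := by
    simp only [MonoidHom.comp_apply, bs_tA]
    exact R.fx' _ _ _ s t
  sym i j h t := by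
    simp only [MonoidHom.comp_apply, bs_tA]
    exact R.sym _ _ _ t
  form i j h s t := by
    simp only [MonoidHom.comp_apply, bs_tA]
    exact R.form _ _ _ s t
  form' i j h s t := by
    simp only [MonoidHom.comp_apply, bs_tA]
    exact R.form' _ _ _ s t

/-- the relations inside the generated subgroup -/
def res {m : ℕ} (R : Pre F m G) : Pre F m R.gen where
  ψ := R.ψ.codRestrict R.gen R.ψ_mem_gen
  φ i := (R.φ i).codRestrict R.gen (R.φ_mem_gen i)
  fix i a b h h1 h2 M t := Subtype.ext (R.fix i a b h h1 h2 M t).eq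
  long i j h M N := Subtype.ext (R.long i j h M N).eq
  tor i j h c hc := Subtype.ext (R.tor i j h c hc)
  nrm i j h c hc t := Subtype.ext (R.nrm i j h c hc t)
  nrm' i j h c hc t := Subtype.ext (R.nrm' i j h c hc t)
  fx i j h s t := Subtype.ext (R.fx i j h s t).eq
  fx' i j h s t := Subtype.ext (R.fx' i j h s t).eq
  sym i j h t := Subtype.ext (R.sym i j h t)
  form i j h s t := Subtype.ext (R.form i j h s t)
  form' i j h s t := Subtype.ext (R.form' i j h s t)

theorem res_gen {m : ℕ} (R : Pre F m G) (x : R.gen) : x ∈ R.res.gen := by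
  have hle : R.gen ≤ R.res.gen.map R.gen.subtype := (Subgroup.closure_le _).2 (by
    rintro y (⟨A, rfl⟩ | hy)
    · exact ⟨_, R.res.ψ_mem_gen A, rfl⟩
    · obtain ⟨i, A, rfl⟩ := Set.mem_iUnion.1 hy
      exact ⟨_, R.res.φ_mem_gen i A, rfl⟩)
  obtain ⟨y, hy, e⟩ := hle x.2
  rwa [Subtype.ext e] at hy

variable (R : Pre F (k + 1) G)

theorem tail_uu (a b : Fin k) (t : F) : R.tail.uu a b t = R.uu a.succ b.succ t := by
  unfold uu
  by_cases h : a = b
  · subst h; rw [dif_pos rfl, dif_pos rfl]; rfl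
  · rw [dif_neg h, dif_neg fun e => h (Fin.succ_inj.1 e)]
    simp [tail, bs_tA]

theorem tail_flip_uu (a b : Fin k) (t : F) : R.tail.flip.uu a b t = R.flip.uu a.succ b.succ t := by
  unfold uu
  by_cases h : a = b
  · subst h; rw [dif_pos rfl, dif_pos rfl]; rfl
  · rw [dif_neg h, dif_neg fun e => h (Fin.succ_inj.1 e)]
    simp [Pre.flip, tail, iot_tr, bs_tA]

/-- the unipotent part of the stabiliser -/
noncomputable def unip (hk : 1 ≤ k) : Subgroup G where
  carrier := {g | ∃ r M, M.IsSymm ∧ RowSupp M ∧ g = R.ψ (rowSL r) * R.U M}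
  one_mem' := ⟨0, 0, Matrix.isSymm_zero, fun _ _ => rfl, by rw [rowSL_zero, map_one, R.U_zero, one_mul]⟩
  mul_mem' := by
    rintro _ _ ⟨r, M, hM, h, rfl⟩ ⟨r', M', hM', h', rfl⟩
    refine ⟨r + r', (rowSL (-r')).1 * M * (rowSL (-r')).1.transpose + M', (isSymm_conj hM _).add hM', ?_, ?_⟩
    · intro a b
      rw [Matrix.add_apply, h.conj (-r') a b, h' a b, add_zero]
    · rw [rowSL_add, map_mul, R.U_add, ← R.conj_U (by omega) _ hM, ← rowSL_inv, map_inv]
      group
  inv_mem' := by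
    rintro _ ⟨r, M, hM, h, rfl⟩
    refine ⟨-r, (rowSL r).1 * (-M) * (rowSL r).1.transpose, isSymm_conj hM.neg _, ?_, ?_⟩
    · exact RowSupp.conj (fun a b => by rw [Matrix.neg_apply, h a b, neg_zero]) r
    · rw [← R.conj_U (by omega) _ hM.neg, R.U_neg, ← rowSL_inv, map_inv]
      group

variable {R}

theorem ψ_row_mem (hk : 1 ≤ k) (r : Fin k → F) : R.ψ (rowSL r) ∈ R.unip hk :=
  ⟨r, 0, Matrix.isSymm_zero, fun _ _ => rfl, by rw [R.U_zero, mul_one]⟩

theorem U_row_mem (hk : 1 ≤ k) {M : Matrix (Fin (k + 1)) (Fin (k + 1)) F} (hM : M.IsSymm) (h : RowSupp M) :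
    R.U M ∈ R.unip hk :=
  ⟨0, M, hM, h, by rw [rowSL_zero, map_one, one_mul]⟩

theorem rowSupp_Sm0 (b : Fin (k + 1)) (t : F) : RowSupp (Sm 0 b t) := fun a c => by
  rw [Sm_apply]; simp [Fin.succ_ne_zero]

theorem uu0_mem (hk : 1 ≤ k) (b : Fin (k + 1)) (t : F) : R.uu 0 b t ∈ R.unip hk := by
  rw [← R.U_Sm]; exact U_row_mem hk (Sm_symm _ _ _) (rowSupp_Sm0 _ _)

/-- the normaliser -/
noncomputable def nor (R : Pre F (k + 1) G) (hk : 1 ≤ k) : Subgroup G where
  carrier := {x | ∀ n ∈ R.unip hk, x * n * x⁻¹ ∈ R.unip hk ∧ x⁻¹ * n * x ∈ R.unip hk}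
  one_mem' := fun n hn => by simpa using hn
  mul_mem' := fun {x y} hx hy n hn => by
    refine ⟨?_, ?_⟩
    · rw [show x * y * n * (x * y)⁻¹ = x * (y * n * y⁻¹) * x⁻¹ by group]
      exact (hx _ (hy n hn).1).1
    · rw [show (x * y)⁻¹ * n * (x * y) = y⁻¹ * (x⁻¹ * n * x) * y by group]
      exact (hy _ (hx n hn).2).2
  inv_mem' := fun {x} hx n hn => by
    rw [inv_inv]
    exact ⟨(hx n hn).2, (hx n hn).1⟩

theorem ψ_bs_nor (hk : 1 ≤ k) (B : SpecialLinearGroup (Fin k) F) : R.ψ (bs k F B) ∈ R.nor hk := by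
  have key : ∀ B : SpecialLinearGroup (Fin k) F, ∀ n ∈ R.unip hk,
      R.ψ (bs k F B) * n * (R.ψ (bs k F B))⁻¹ ∈ R.unip hk := by
    rintro B _ ⟨r, M, hM, h, rfl⟩
    refine ⟨r ᵥ* (B⁻¹).1, _, isSymm_conj hM (bs k F B).1, h.conj_bs B, ?_⟩
    rw [← R.conj_U (by omega) _ hM, ← bs_rowSL, map_mul, map_mul, map_inv]
    group
  intro n hn
  refine ⟨key B n hn, ?_⟩
  have := key B⁻¹ n hn
  rwa [map_inv, map_inv, inv_inv] at this

theorem U_nor (hk : 1 ≤ k) {X : Matrix (Fin (k + 1)) (Fin (k + 1)) F} (hX : X.IsSymm) : R.U X ∈ R.nor hk := by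
  have key : ∀ X : Matrix (Fin (k + 1)) (Fin (k + 1)) F, X.IsSymm → ∀ n ∈ R.unip hk,
      R.U X * n * (R.U X)⁻¹ ∈ R.unip hk := by
    rintro X hX _ ⟨r, M, hM, h, rfl⟩
    refine ⟨r, (rowSL (-r)).1 * X * (rowSL (-r)).1.transpose + -X + M,
      ((isSymm_conj hX _).add hX.neg).add hM, fun a b => ?_, ?_⟩
    · rw [Matrix.add_apply, rowSupp_sub X (-r) a b, h a b, add_zero]
    · rw [mul_assoc, mul_assoc (R.ψ _), (show R.U M * (R.U X)⁻¹ = (R.U X)⁻¹ * R.U M from
        ((R.U_comm M X).inv_right).eq), R.U_add, R.U_add, R.U_neg, ← R.conj_U (by omega) _ hX, ← rowSL_inv, map_inv]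
      group
  intro n hn
  refine ⟨key X hX n hn, ?_⟩
  have := key (-X) hX.neg n hn
  rwa [R.U_neg, inv_inv] at this

theorem V_nor (hk : 1 ≤ k) (i : Fin k) (t : F) : R.φ i.succ (xm t) ∈ R.nor hk := by
  have key : ∀ t : F, ∀ n ∈ R.unip hk, R.φ i.succ (xm t) * n * (R.φ i.succ (xm t))⁻¹ ∈ R.unip hk := by
    intro t
    let K : Subgroup G := (R.unip hk).comap (MulAut.conj (R.φ i.succ (xm t))).toMonoidHom
    rintro _ ⟨r, M, hM, h, rfl⟩
    have h1 : R.ψ (rowSL r) ∈ K := rowSL_mem (K.comap R.ψ) (fun b s => by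
      show R.φ i.succ (xm t) * R.ψ (tA (Fin.succ_ne_zero b).symm s) * (R.φ i.succ (xm t))⁻¹ ∈ R.unip hk
      have hc : Commute (R.φ i.succ (xm t)) (R.ψ (tA (Fin.succ_ne_zero b).symm s)) := by
        by_cases hb : b = i
        · subst hb; exact R.fx' b.succ 0 _ t s
        · exact R.fix _ _ _ _ (Fin.succ_ne_zero i).symm (fun e => hb (Fin.succ_inj.1 e)) _ _
      rw [hc.eq, mul_inv_cancel_right, ← rowSL_single]
      exact ψ_row_mem hk _) r
    have h2 : R.U M ∈ K := by
      rw [rowSupp_eq hM h]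
      refine Finset.sum_induction _ (fun M => R.U M ∈ K) (fun A B ha hb => ?_) ?_ fun b _ => ?_
      · show R.U (A + B) ∈ K
        rw [R.U_add]; exact mul_mem ha hb
      · show R.U 0 ∈ K
        rw [R.U_zero]; exact one_mem K
      · show R.φ i.succ (xm t) * R.U (Sm 0 b (M 0 b)) * (R.φ i.succ (xm t))⁻¹ ∈ R.unip hk
        obtain ⟨s, hs⟩ : ∃ s, s = M 0 b := ⟨_, rfl⟩
        rw [← hs, R.U_Sm]
        by_cases hb0 : b = 0
        · subst hb0
          rw [R.uu_self, (R.long i.succ 0 (Fin.succ_ne_zero i) _ _).eq, mul_inv_cancel_right, ← R.uu_self]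
          exact uu0_mem hk 0 s
        by_cases hbi : b = i.succ
        · subst hbi
          obtain ⟨X, hX⟩ : ∃ X, X = R.φ i.succ (xm t) := ⟨_, rfl⟩
          obtain ⟨W, hW⟩ : ∃ W, W = R.φ 0 (wS F) := ⟨_, rfl⟩
          obtain ⟨A, hA⟩ : ∃ A, A = R.ψ (tA (Fin.succ_ne_zero i) (-s)) := ⟨_, rfl⟩
          have hf := R.form' i.succ 0 (Fin.succ_ne_zero i) s (-t)
          have hxi : R.φ i.succ (xm (-t)) = X⁻¹ := by
            rw [hX, ← map_inv, show xm (-t) = (xm t)⁻¹ from (Matrix.SpecialLinearGroup.transvection_inv _ t).symm]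
          rw [← hA, hxi, ← hW] at hf
          have hXW : Commute X W := hX ▸ hW ▸ R.long i.succ 0 (Fin.succ_ne_zero i) _ _
          rw [R.uu_symm, R.uu_ne (Fin.succ_ne_zero i), ← hW, ← hA, ← hX]
          obtain ⟨P, hP⟩ : ∃ P, P = R.ψ (tA (Fin.succ_ne_zero i).symm (s * -t)) := ⟨_, rfl⟩
          obtain ⟨Z, hZ⟩ : ∃ Z, Z = R.φ 0 (xm (s * s * -t)) := ⟨_, rfl⟩
          rw [← hP, ← hZ] at hf
          have e : X * A * X⁻¹ = W⁻¹ * P * W * Z * A := by
            calc X * A * X⁻¹ = X * (A * X⁻¹ * A⁻¹) * A := by group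
              _ = _ := by rw [hf]; group
          have e' : X * (W * A * W⁻¹) * X⁻¹ = P * (W * Z * W⁻¹) * (W * A * W⁻¹) := by
            calc X * (W * A * W⁻¹) * X⁻¹ = W * (X * A * X⁻¹) * W⁻¹ := by
                  rw [show X * (W * A * W⁻¹) * X⁻¹ = (X * W) * A * (X * W)⁻¹ by group, hXW.eq]; group
              _ = _ := by rw [e]; group
          rw [e']
          refine mul_mem (mul_mem ?_ ?_) ?_
          · rw [hP, ← rowSL_single]; exact ψ_row_mem hk _
          · have hwz : wS F * xm (s * s * -t) * (wS F)⁻¹ = xp (s * s * t) := by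
              rw [mul_inv_eq_iff_eq_mul]
              refine Subtype.ext ?_
              rw [Matrix.SpecialLinearGroup.coe_mul, Matrix.SpecialLinearGroup.coe_mul, xm_coe, wS_coe, xp_coe]
              ext i j
              fin_cases i <;> fin_cases j <;> simp
            rw [hW, hZ, ← map_inv, ← map_mul, ← map_mul, hwz, ← R.uu_self]
            exact uu0_mem hk 0 _
          · rw [hW, hA, ← R.uu_ne (Fin.succ_ne_zero i), R.uu_symm]
            exact uu0_mem hk _ _
        · have hc : Commute (R.φ i.succ (xm t)) (R.uu 0 b s) := by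
            rw [R.uu_ne (Ne.symm hb0)]
            have hl : Commute (R.φ i.succ (xm t)) (R.φ b (wS F)) := R.long _ _ (Ne.symm hbi) _ _
            exact (hl.mul_right (R.fix _ _ _ _ (Fin.succ_ne_zero i).symm hbi _ _)).mul_right hl.inv_right
          rw [hc.eq, mul_inv_cancel_right]
          exact uu0_mem hk b s
    exact (mul_mem h1 h2 : R.ψ (rowSL r) * R.U M ∈ K)
  intro n hn
  refine ⟨key t n hn, ?_⟩
  have e : (R.φ i.succ (xm t))⁻¹ = R.φ i.succ (xm (-t)) := by
    rw [← map_inv, show xm (-t) = (xm t)⁻¹ from (Matrix.SpecialLinearGroup.transvection_inv _ t).symm]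
  have := key (-t) n hn
  rw [← e, inv_inv] at this
  exact this

theorem tail_le_nor (hk : 1 ≤ k) : R.tail.gen ≤ R.nor hk := (Subgroup.closure_le _).2 (by
  rintro x (⟨A, rfl⟩ | hx)
  · exact ψ_bs_nor hk A
  · obtain ⟨i, A, rfl⟩ := Set.mem_iUnion.1 hx
    exact R.φ_mem_of i.succ _ (fun t => U_nor hk (Sm_symm _ _ _))
      (fun t => by rw [R.V_diag]; exact V_nor hk i t) A)

theorem P1_split (hk : 1 ≤ k) {g : G} (hg : g ∈ R.P1) : ∃ n ∈ R.unip hk, ∃ g' ∈ R.tail.gen, g = n * g' := by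
  let S : Subgroup G :=
    { carrier := {g | ∃ n ∈ R.unip hk, ∃ g' ∈ R.tail.gen, g = n * g'}
      one_mem' := ⟨1, one_mem _, 1, one_mem _, (one_mul 1).symm⟩
      mul_mem' := by
        rintro _ _ ⟨n, hn, a, ha, rfl⟩ ⟨n', hn', a', ha', rfl⟩
        exact ⟨n * (a * n' * a⁻¹), mul_mem hn ((tail_le_nor hk ha) n' hn').1, a * a', mul_mem ha ha', by group⟩
      inv_mem' := by
        rintro _ ⟨n, hn, a, ha, rfl⟩
        exact ⟨a⁻¹ * n⁻¹ * a, ((tail_le_nor hk ha) _ (inv_mem hn)).2, a⁻¹, inv_mem ha, by group⟩ }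
  have hN : ∀ {x}, x ∈ R.unip hk → x ∈ S := fun {x} hx => ⟨x, hx, 1, one_mem _, (mul_one x).symm⟩
  have hT : ∀ {x}, x ∈ R.tail.gen → x ∈ S := fun {x} hx => ⟨1, one_mem _, x, hx, (one_mul x).symm⟩
  have hle : R.P1 ≤ S := (Subgroup.closure_le _).2 (by
    rintro x ((⟨A, hA, rfl⟩ | ⟨M, hM, rfl⟩) | ⟨M, ⟨hM, hM0⟩, rfl⟩)
    · obtain ⟨B, r, rfl⟩ := exists_bs_row hA
      rw [map_mul]
      exact mul_mem (hT (R.tail.ψ_mem_gen B)) (hN (ψ_row_mem hk r))
    · refine symm_induction (P := fun M => R.U M ∈ S) ?_ ?_ (fun a b t => ?_) hM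
      · rw [R.U_zero]; exact one_mem S
      · intro A B _ _ ha hb; rw [R.U_add]; exact mul_mem ha hb
      · rw [R.U_Sm]
        cases a using Fin.cases with
        | zero => exact hN (uu0_mem hk b t)
        | succ a =>
          cases b using Fin.cases with
          | zero => rw [R.uu_symm]; exact hN (uu0_mem hk _ t)
          | succ b =>
            rw [← R.tail_uu, ← R.tail.U_Sm]
            exact hT (R.tail.U_mem_gen (Sm_symm _ _ _))
    · rw [eq_pad_of_symm hM hM0]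
      refine symm_induction (P := fun M => R.V (pad 0 M) ∈ S) ?_ ?_ (fun a b t => ?_) (hM.submatrix _)
      · rw [pad_zero, R.V_zero]; exact one_mem S
      · intro A B _ _ ha hb
        have e : pad (0 : F) (A + B) = pad 0 A + pad 0 B := by rw [pad_add, add_zero]
        rw [e, R.V_add]; exact mul_mem ha hb
      · rw [pad_Sm, R.V_Sm, ← R.tail_flip_uu, ← R.tail.V_Sm]
        exact hT (R.tail.V_mem_gen (Sm_symm _ _ _)))
  exact hle hg

end Pre

/-- the kernel is trivial -/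
theorem Pre.eq_one : ∀ {m : ℕ}, 1 ≤ m → ∀ {G : Type*} [Group G] {R : Pre F m G}
    {θ : G →* Matrix.symplecticGroup (Fin m) F}, Pre.Rep R θ → ∀ g ∈ R.gen, θ g = 1 → g = 1 := by
  intro m hm
  induction m, hm using Nat.le_induction with
  | base =>
    intro G _ R θ h g hg hθ
    haveI : Subsingleton (SpecialLinearGroup (Fin 1) F) := ⟨fun A B => Subtype.ext (Matrix.ext fun i j => by
      obtain rfl : i = 0 := Subsingleton.elim _ _
      obtain rfl : j = 0 := Subsingleton.elim _ _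
      rw [← Matrix.det_fin_one A.1, ← Matrix.det_fin_one B.1, A.2, B.2])⟩
    have hle : R.gen ≤ (R.φ 0).range := (Subgroup.closure_le _).2 (by
      rintro x (⟨A, rfl⟩ | hx)
      · rw [Subsingleton.elim A 1, map_one]; exact one_mem _
      · obtain ⟨i, A, rfl⟩ := Set.mem_iUnion.1 hx
        obtain rfl : i = 0 := Subsingleton.elim _ _
        exact ⟨A, rfl⟩)
    obtain ⟨M, rfl⟩ := hle hg
    rw [h.hφ] at hθ
    suffices M = 1 by rw [this, map_one]
    have e : s2m (0 : Fin 1) M.1 = 1 := congrArg Subtype.val hθ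
    rw [← Matrix.fromBlocks_one, s2m, Matrix.fromBlocks_inj] at e
    obtain ⟨e1, e2, e3, e4⟩ := e
    refine Subtype.ext ?_
    ext i j
    fin_cases i <;> fin_cases j
    · simpa [sub_eq_zero] using congrFun (congrFun e1 0) 0
    · simpa using congrFun (congrFun e2 0) 0
    · simpa using congrFun (congrFun e3 0) 0
    · simpa [sub_eq_zero] using congrFun (congrFun e4 0) 0
  | succ k hk ih =>
    intro G _ R θ h g hg hθ
    have hP : g ∈ R.P1 := Pre.stab h hk hg (by rw [hθ]; simp)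
    obtain ⟨n, hn, g', hg', rfl⟩ := Pre.P1_split hk hP
    have hle : R.tail.gen ≤ (emb k F).range.comap θ := (Subgroup.closure_le _).2 (by
      rintro x (⟨A, rfl⟩ | hx)
      · exact ⟨leviSp k A, by rw [emb_levi]; exact (h.hψ _).symm⟩
      · obtain ⟨i, A, rfl⟩ := Set.mem_iUnion.1 hx
        exact ⟨s2 i A, by rw [emb_s2]; exact (h.hφ _ _).symm⟩)
    obtain ⟨S, hS⟩ : θ g' ∈ (emb k F).range := hle hg'
    obtain ⟨r, M, hM, hR, rfl⟩ := hn
    have hf : (θ (R.ψ (rowSL r) * R.U M)).1.mulVec (Sum.elim (0 : Fin (k + 1) → F) (ev k F)) = Sum.elim (0 : Fin (k + 1) → F) (ev k F) := by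
      conv_lhs => rw [← emb_fix_right S, hS, Matrix.mulVec_mulVec, ← Submonoid.coe_mul, ← map_mul, hθ]
      simp
    rw [map_mul, Submonoid.coe_mul, h.hψ, Pre.θ_U h hM, coe_leviSp, ← Matrix.mulVec_mulVec,
      Matrix.fromBlocks_mulVec, Matrix.fromBlocks_mulVec, Sum.elim_eq_iff] at hf
    simp at hf
    obtain ⟨hf1, hf2⟩ := hf
    have hr : r = 0 := by
      have h2 : (iot _ F (rowSL (-r))).1.mulVec (ev k F) = ev k F := by
        rw [← rowSL_inv, map_inv, smul_eq_mv, inv_smul_eq_iff, ← smul_eq_mv, hf2]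
      rw [← rowSL_inv, coe_iot, inv_inv] at h2
      funext b
      have := (mulVec_ev _ b.succ).symm.trans (congrFun h2 b.succ)
      simpa [coe_rowSL, ev] using this
    subst hr
    rw [rowSL_zero, Matrix.SpecialLinearGroup.coe_one, Matrix.one_mul] at hf1
    have hM0 : M = 0 := by
      rw [eq_pad_of_symm hM hf1]
      have : M.submatrix Fin.succ Fin.succ = 0 := by ext a b; exact hR a b
      rw [this, pad_zero]
    subst hM0
    rw [rowSL_zero, map_one, R.U_zero, one_mul, one_mul] at hθ ⊢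
    let θ' : R.tail.gen →* Matrix.symplecticGroup (Fin k) F :=
      (MonoidHom.ofInjective (emb_injective (k := k) (F := F))).symm.toMonoidHom.comp
        ((θ.comp R.tail.gen.subtype).codRestrict (emb k F).range fun x => hle x.2)
    have hθ' : ∀ x : R.tail.gen, ∀ S, θ x.1 = emb k F S → θ' x = S := fun x S e => by
      show (MonoidHom.ofInjective (emb_injective (k := k) (F := F))).symm
        (((θ.comp R.tail.gen.subtype).codRestrict (emb k F).range fun x => hle x.2) x) = S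
      rw [MulEquiv.symm_apply_eq]
      exact Subtype.ext e
    have hrep : Pre.Rep R.tail.res θ' :=
      { hψ := fun A => hθ' _ _ (by rw [emb_levi]; exact h.hψ _)
        hφ := fun i A => hθ' _ _ (by rw [emb_s2]; exact h.hφ _ _) }
    have := ih hrep ⟨g', hg'⟩ (R.tail.res_gen _) (hθ' _ _ (by rw [hθ, map_one]))
    exact congrArg Subtype.val this

/-- the symplectic group -/
theorem Pre.nonempty_equiv {m : ℕ} (hm : 2 ≤ m) {G : Type*} [Group G] {R : Pre F m G} (hgen : R.gen = ⊤)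
    {θ : G →* Matrix.symplecticGroup (Fin m) F} (h : Pre.Rep R θ) :
    Nonempty (G ≃* Matrix.symplecticGroup (Fin m) F) := by
  obtain ⟨k, rfl⟩ : ∃ k, m = k + 1 := ⟨m - 1, by omega⟩
  refine ⟨MulEquiv.ofBijective θ ⟨(injective_iff_map_eq_one θ).2 fun g hg =>
    Pre.eq_one (by omega) h g (hgen ▸ Subgroup.mem_top g) hg, fun T => ?_⟩⟩
  obtain ⟨g, -, hg⟩ := (Pre.map_gen_top h (by omega)).ge (Subgroup.mem_top T)
  exact ⟨g, hg⟩

end CfsgLib.Known.SpBounded
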