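import Cfsg.Agent.Lib.Known.SpBounded.Kernel

/-!
# Signed permutation matrices of determinant one
-/

set_option autoImplicit false

namespace CfsgLib.Known.SpBounded

open Matrix (SpecialLinearGroup)
open scoped Matrix

variable {F : Type*} [Field F] {k : ℕ}

/-- the sign carried by the second column -/
def msgn (F : Type*) [Field F] (σ : Equiv.Perm (Fin (k + 2))) (l : Fin (k + 2)) : F :=
  if l = 1 then ((Equiv.Perm.sign σ : ℤ) : F) else 1

theorem msgn_sq (σ : Equiv.Perm (Fin (k + 2))) (l : Fin (k + 2)) : msgn F σ l * msgn F σ l = 1 := by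
  unfold msgn
  split
  · rcases Int.units_eq_one_or (Equiv.Perm.sign σ) with h | h <;> simp [h]
  · simp

theorem msgn_zero (σ : Equiv.Perm (Fin (k + 2))) : msgn F σ 0 = 1 := if_neg Fin.zero_ne_one

theorem msgn_ne (σ : Equiv.Perm (Fin (k + 2))) (l : Fin (k + 2)) : msgn F σ l ≠ 0 := fun h => by
  have := msgn_sq (F := F) σ l
  rw [h, mul_zero] at this
  exact zero_ne_one this

/-- the matrix -/
def monoM (F : Type*) [Field F] (σ : Equiv.Perm (Fin (k + 2))) : Matrix (Fin (k + 2)) (Fin (k + 2)) F :=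
  Matrix.of fun a l => if a = σ l then msgn F σ l else 0

theorem monoM_apply (σ : Equiv.Perm (Fin (k + 2))) (a l : Fin (k + 2)) :
    monoM F σ a l = if a = σ l then msgn F σ l else 0 := rfl

theorem det_monoM (σ : Equiv.Perm (Fin (k + 2))) : (monoM F σ).det = 1 := by
  have e : monoM F σ = (σ⁻¹).permMatrix F * Matrix.diagonal (msgn F σ) := by
    ext a l
    simp only [Matrix.mul_diagonal, Equiv.Perm.permMatrix, PEquiv.toMatrix_apply, Equiv.toPEquiv_apply,
      Option.mem_def, Option.some.injEq, monoM_apply]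
    by_cases h : a = σ l
    · subst h; simp
    · rw [if_neg h, if_neg, zero_mul]
      intro e
      exact h (by rw [← e]; simp)
  rw [e, Matrix.det_mul, Matrix.det_permutation, Matrix.det_diagonal, Equiv.Perm.sign_inv,
    Finset.prod_eq_single 1]
  · simp only [msgn, if_pos]
    rcases Int.units_eq_one_or (Equiv.Perm.sign σ) with h | h <;> simp [h]
  · intro b _ hb; simp [msgn, hb]
  · simp

/-- as an element -/
def mono (F : Type*) [Field F] (σ : Equiv.Perm (Fin (k + 2))) : SpecialLinearGroup (Fin (k + 2)) F :=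
  ⟨monoM F σ, det_monoM σ⟩

theorem coe_mono (σ : Equiv.Perm (Fin (k + 2))) :
    (mono F σ : Matrix (Fin (k + 2)) (Fin (k + 2)) F) = monoM F σ := rfl

theorem monoM_mulVec (σ : Equiv.Perm (Fin (k + 2))) (x : Fin (k + 2) → F) (l : Fin (k + 2)) :
    (monoM F σ).mulVec x (σ l) = msgn F σ l * x l := by
  rw [Matrix.mulVec, dotProduct, Finset.sum_eq_single l]
  · simp [monoM_apply]
  · intro b _ hb; simp [monoM_apply, Ne.symm hb]
  · simp

theorem monoM_mul_transpose (σ : Equiv.Perm (Fin (k + 2))) : monoM F σ * (monoM F σ).transpose = 1 := by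
  ext a b
  obtain ⟨l, rfl⟩ := σ.surjective a
  obtain ⟨l', rfl⟩ := σ.surjective b
  rw [Matrix.mul_apply, Finset.sum_eq_single l]
  · by_cases h : l = l'
    · subst h; simp [monoM_apply, msgn_sq]
    · simp [monoM_apply, h, Ne.symm h]
  · intro b _ hb; simp [monoM_apply, Ne.symm hb]
  · simp

theorem iot_mono (σ : Equiv.Perm (Fin (k + 2))) : iot _ F (mono F σ) = mono F σ := by
  refine Subtype.ext ?_
  rw [coe_iot]
  have h1 := monoM_mul_transpose (F := F) σ
  have h2 : (mono F σ)⁻¹.1 * monoM F σ = 1 := by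
    rw [← coe_mono, ← Matrix.SpecialLinearGroup.coe_mul, inv_mul_cancel, Matrix.SpecialLinearGroup.coe_one]
  have h3 : (mono F σ)⁻¹.1 = (monoM F σ).transpose := by
    calc (mono F σ)⁻¹.1 = (mono F σ)⁻¹.1 * (monoM F σ * (monoM F σ).transpose) := by rw [h1, mul_one]
      _ = _ := by rw [← mul_assoc, h2, one_mul]
  rw [h3, Matrix.transpose_transpose, coe_mono]

theorem mono_smul (σ : Equiv.Perm (Fin (k + 2))) (x : Fin (k + 2) → F) (l : Fin (k + 2)) :
    (mono F σ • x) (σ l) = msgn F σ l * x l := by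
  rw [← smul_eq_mv]
  exact monoM_mulVec σ x l

theorem mono_tA (σ : Equiv.Perm (Fin (k + 2))) {i j : Fin (k + 2)} (h : i ≠ j) (t : F) :
    mono F σ * tA h t =
      tA (fun e => h (σ.injective e) : σ i ≠ σ j) (msgn F σ i * t * msgn F σ j) * mono F σ := by
  refine CfsgLib.Classical.sl_ext_smul fun x => funext fun a => ?_
  obtain ⟨l, rfl⟩ := σ.surjective a
  simp only [tA, mul_smul, mono_smul, CfsgLib.Classical.transvection_smul_apply, σ.injective.eq_iff]
  by_cases hl : l = i
  · subst hl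
    have := msgn_sq (F := F) σ j
    simp only [if_pos]
    linear_combination (-(msgn F σ l * t * x j)) * this
  · simp [hl]

theorem mono_diag (σ : Equiv.Perm (Fin (k + 2))) {i j : Fin (k + 2)} (h : i ≠ j) (c : F) (hc : c ≠ 0) :
    mono F σ * SpecialLinearGroup.diag2n h c hc =
      SpecialLinearGroup.diag2n (fun e => h (σ.injective e) : σ i ≠ σ j) c hc * mono F σ := by
  refine CfsgLib.Classical.sl_ext_smul fun x => funext fun a => ?_
  obtain ⟨l, rfl⟩ := σ.surjective a
  simp only [mul_smul, mono_smul, CfsgLib.Classical.diag2n_smul_apply, σ.injective.eq_iff]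
  ring

theorem mono_single (σ : Equiv.Perm (Fin (k + 2))) (l : Fin (k + 2)) (c : F) :
    mono F σ • (Pi.single l c : Fin (k + 2) → F) = Pi.single (σ l) (msgn F σ l * c) := by
  funext a
  obtain ⟨b, rfl⟩ := σ.surjective a
  rw [mono_smul]
  by_cases hb : b = l
  · subst hb; simp
  · simp [hb]

theorem iot_mono_single (σ : Equiv.Perm (Fin (k + 2))) (l : Fin (k + 2)) (c : F) :
    iot _ F (mono F σ) • (Pi.single l c : Fin (k + 2) → F) = Pi.single (σ l) (msgn F σ l * c) := by
  rw [iot_mono, mono_single]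

theorem mono_one : mono F (1 : Equiv.Perm (Fin (k + 2))) = 1 := by
  refine Subtype.ext ?_
  rw [coe_mono, Matrix.SpecialLinearGroup.coe_one]
  ext a b
  simp [monoM_apply, msgn, Matrix.one_apply]

theorem exists_perm_pair {i j : Fin (k + 2)} (h : i ≠ j) :
    ∃ σ : Equiv.Perm (Fin (k + 2)), σ 0 = i ∧ σ 1 = j := by
  refine ⟨Equiv.swap (Equiv.swap 0 i 1) j * Equiv.swap 0 i, ?_, by simp⟩
  rw [Equiv.Perm.mul_apply, Equiv.swap_apply_left, Equiv.swap_apply_of_ne_of_ne ?_ h]
  intro e
  have : Equiv.swap 0 i 1 = Equiv.swap 0 i 0 := by rw [Equiv.swap_apply_left]; exact e.symm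
  exact Fin.zero_ne_one ((Equiv.swap 0 i).injective this).symm

end CfsgLib.Known.SpBounded
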