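import Cfsg.Agent.Lib.Known.SpBounded.Check
import Cfsg.Agent.Lib.Known.SLBounded.All

/-!
# The symplectic group from `SL m`, `SL 2` and sixteen relations
-/

set_option autoImplicit false

namespace CfsgLib.Known.SpBounded

open Matrix (SpecialLinearGroup)
open CfsgLib.Known.ClassicalSections (leviSp)

variable {F : Type*} [Field F] {k : ℕ}

/-- letters -/
abbrev Ltr (F : Type*) [Field F] (k : ℕ) := SpecialLinearGroup (Fin (k + 2)) F ⊕ SpecialLinearGroup (Fin 2) F

/-- a letter of the large group -/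
def lP (A : SpecialLinearGroup (Fin (k + 2)) F) : FreeGroup (Ltr F k) := FreeGroup.of (Sum.inl A)

/-- a letter of the small group -/
def lQ (M : SpecialLinearGroup (Fin 2) F) : FreeGroup (Ltr F k) := FreeGroup.of (Sum.inr M)

/-- a letter of the moved small group -/
def lR (M : SpecialLinearGroup (Fin 2) F) : FreeGroup (Ltr F k) :=
  lP (mono F (Equiv.swap 0 1)) * lQ M * (lP (mono F (Equiv.swap 0 1)))⁻¹

/-- a commutation -/
def cw {α : Type*} [Group α] (x y : α) : α := x * y * x⁻¹ * y⁻¹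

/-- the sixteen words -/
noncomputable def glueRels (g : Fin 2 → SpecialLinearGroup (Fin 2) F)
    (b : Fin 2 → SpecialLinearGroup (Fin (k + 1)) F) (ω : Fˣ) : List (FreeGroup (Ltr F k)) :=
  [cw (lQ (g 0)) (lP (bs (k + 1) F (b 0))), cw (lQ (g 0)) (lP (bs (k + 1) F (b 1))),
   cw (lQ (g 1)) (lP (bs (k + 1) F (b 0))), cw (lQ (g 1)) (lP (bs (k + 1) F (b 1))),
   cw (lQ (g 0)) (lR (g 0)), cw (lQ (g 0)) (lR (g 1)), cw (lQ (g 1)) (lR (g 0)), cw (lQ (g 1)) (lR (g 1)),
   lP (SpecialLinearGroup.diag2n (zero_ne_one (α := Fin (k + 2))) (ω : F) ω.ne_zero) *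
     (lQ (hd (ω : F) ω.ne_zero) * lR (hd (ω : F)⁻¹ (inv_ne_zero ω.ne_zero)))⁻¹,
   lQ (hd (ω : F) ω.ne_zero) * lP (tA (zero_ne_one (α := Fin (k + 2))) (1 : F)) * (lQ (hd (ω : F) ω.ne_zero))⁻¹ *
     (lP (tA (zero_ne_one (α := Fin (k + 2))) (ω : F)))⁻¹,
   lQ (hd (ω : F) ω.ne_zero) * lP (tA (one_ne_zero (α := Fin (k + 2))) (1 : F)) * (lQ (hd (ω : F) ω.ne_zero))⁻¹ *
     (lP (tA (one_ne_zero (α := Fin (k + 2))) (ω : F)⁻¹))⁻¹,
   cw (lQ (xp 1)) (lP (tA (zero_ne_one (α := Fin (k + 2))) 1)),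
   cw (lQ (xm 1)) (lP (tA (one_ne_zero (α := Fin (k + 2))) 1)),
   lR (wS F) * lP (tA (zero_ne_one (α := Fin (k + 2))) 1) * (lR (wS F))⁻¹ *
     (lQ (wS F) * lP (tA one_ne_zero 1) * (lQ (wS F))⁻¹)⁻¹,
   lP (tA (one_ne_zero (α := Fin (k + 2))) 1) * lQ (xp 1) * (lP (tA one_ne_zero 1))⁻¹ *
     (lQ (xp 1) * (lR (wS F) * lP (tA zero_ne_one (-1)) * (lR (wS F))⁻¹) * lR (xp 1))⁻¹,
   lP (tA (zero_ne_one (α := Fin (k + 2))) (-1)) * lQ (xm 1) * (lP (tA zero_ne_one (-1)))⁻¹ *
     (lQ (xm 1) * ((lR (wS F))⁻¹ * lP (tA one_ne_zero 1) * lR (wS F)) * lR (xm 1))⁻¹]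

theorem length_glueRels (g : Fin 2 → SpecialLinearGroup (Fin 2) F)
    (b : Fin 2 → SpecialLinearGroup (Fin (k + 1)) F) (ω : Fˣ) : (glueRels g b ω).length = 16 := rfl

theorem cw_eq {α : Type*} [Group α] {x y : α} : cw x y = 1 ↔ Commute x y := by
  rw [cw, mul_inv_eq_one, mul_inv_eq_iff_eq_mul]
  rfl

theorem map_cw {α β : Type*} [Group α] [Group β] (f : α →* β) (x y : α) : f (cw x y) = cw (f x) (f y) := by
  simp [cw]

theorem lift_lP {G : Type*} [Group G] (ψ : SpecialLinearGroup (Fin (k + 2)) F →* G)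
    (φ : SpecialLinearGroup (Fin 2) F →* G) (A : SpecialLinearGroup (Fin (k + 2)) F) :
    FreeGroup.lift (Sum.elim ψ φ) (lP A) = ψ A := FreeGroup.lift_apply_of

theorem lift_lQ {G : Type*} [Group G] (ψ : SpecialLinearGroup (Fin (k + 2)) F →* G)
    (φ : SpecialLinearGroup (Fin 2) F →* G) (M : SpecialLinearGroup (Fin 2) F) :
    FreeGroup.lift (Sum.elim ψ φ) (lQ M) = φ M := FreeGroup.lift_apply_of

theorem lift_lR {G : Type*} [Group G] (ψ : SpecialLinearGroup (Fin (k + 2)) F →* G)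
    (φ : SpecialLinearGroup (Fin 2) F →* G) (M : SpecialLinearGroup (Fin 2) F) :
    FreeGroup.lift (Sum.elim ψ φ) (lR M) = phOf ψ φ 1 M := by
  rw [lR, map_mul, map_mul, map_inv, lift_lP, lift_lQ]
  rfl

theorem glueRels_iff {G : Type*} [Group G] (ψ : SpecialLinearGroup (Fin (k + 2)) F →* G)
    (φ : SpecialLinearGroup (Fin 2) F →* G) {g : Fin 2 → SpecialLinearGroup (Fin 2) F}
    {b : Fin 2 → SpecialLinearGroup (Fin (k + 1)) F} {ω : Fˣ} :
    (∀ r ∈ glueRels g b ω, FreeGroup.lift (Sum.elim ψ φ) r = 1) ↔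
      ∃ D : Glue F k g b ω G, D.ψ = ψ ∧ D.φ = φ := by
  simp only [glueRels, List.forall_mem_cons, List.not_mem_nil, false_imp_iff, implies_true, map_cw, cw_eq,
    map_mul, map_inv, mul_inv_eq_one, lift_lP, lift_lQ, lift_lR, and_true]
  constructor
  · rintro ⟨b00, b01, b10, b11, l00, l01, l10, l11, ht, hn, hn', hx, hx', hs, hf, hf'⟩
    exact ⟨{ ψ := ψ, φ := φ
             blk := fun a c => by fin_cases a <;> fin_cases c <;> assumption
             lng := fun a c => by fin_cases a <;> fin_cases c <;> assumption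
             tor := ht, nrm := hn, nrm' := hn', fx := hx, fx' := hx', sym := hs, form := hf, form' := hf' },
      rfl, rfl⟩
  · rintro ⟨D, rfl, rfl⟩
    exact ⟨D.blk 0 0, D.blk 0 1, D.blk 1 0, D.blk 1 1, D.lng 0 0, D.lng 0 1, D.lng 1 0, D.lng 1 1, D.tor, D.nrm,
      D.nrm', D.fx, D.fx', D.sym, D.form, D.form'⟩

theorem exists_pair' [Finite F] (k : ℕ) :
    ∃ b : Fin 2 → SpecialLinearGroup (Fin (k + 1)) F, Subgroup.closure (Set.range b) = ⊤ := by
  rcases Nat.eq_zero_or_pos k with rfl | hk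
  · haveI : Subsingleton (SpecialLinearGroup (Fin 1) F) := ⟨fun A B => Subtype.ext (Matrix.ext fun i j => by
      obtain rfl : i = 0 := Subsingleton.elim _ _
      obtain rfl : j = 0 := Subsingleton.elim _ _
      rw [← Matrix.det_fin_one A.1, ← Matrix.det_fin_one B.1, A.2, B.2])⟩
    exact ⟨fun _ => 1, (Subgroup.eq_top_iff' _).2 fun x => by rw [Subsingleton.elim x 1]; exact one_mem _⟩
  · obtain ⟨x, y, h⟩ := SLBounded.exists_pair (F := F) k hk
    refine ⟨![x, y], ?_⟩
    rw [Matrix.range_cons, Matrix.range_cons, Matrix.range_empty, Set.union_empty, Set.singleton_union]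
    exact h

/-- gluing two presentations with sixteen more relations -/
theorem exists_pres [Finite F] (k : ℕ) {α β : Type} (R1 : Finset (FreeGroup α))
    (e1 : PresentedGroup (↑R1 : Set (FreeGroup α)) ≃* SpecialLinearGroup (Fin (k + 2)) F)
    (R2 : Finset (FreeGroup β))
    (e2 : PresentedGroup (↑R2 : Set (FreeGroup β)) ≃* SpecialLinearGroup (Fin 2) F) :
    ∃ rels : Finset (FreeGroup (α ⊕ β)), rels.card ≤ R1.card + R2.card + 16 ∧
      Nonempty (PresentedGroup (↑rels : Set (FreeGroup (α ⊕ β))) ≃* Matrix.symplecticGroup (Fin (k + 2)) F) := by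
  classical
  obtain ⟨ω, hω⟩ := IsCyclic.exists_generator (α := Fˣ)
  obtain ⟨b, hb⟩ := exists_pair' (F := F) k
  obtain ⟨g, hg⟩ := exists_pair' (F := F) 1
  let S1 : SpecialLinearGroup (Fin (k + 2)) F →* Matrix.symplecticGroup (Fin (k + 2)) F := leviSp (k + 2)
  let S2 : SpecialLinearGroup (Fin 2) F →* Matrix.symplecticGroup (Fin (k + 2)) F := s2 0
  choose v hv using fun A : SpecialLinearGroup (Fin (k + 2)) F =>
    (e1.surjective.comp (PresentedGroup.mk_surjective (↑R1 : Set (FreeGroup α)))) A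
  choose w hw using fun M : SpecialLinearGroup (Fin 2) F =>
    (e2.surjective.comp (PresentedGroup.mk_surjective (↑R2 : Set (FreeGroup β)))) M
  let V : Ltr F k → FreeGroup (α ⊕ β) :=
    Sum.elim (fun A => FreeGroup.map Sum.inl (v A)) (fun M => FreeGroup.map Sum.inr (w M))
  let R : Finset (FreeGroup (α ⊕ β)) :=
    (R1.image (FreeGroup.map Sum.inl) ∪ R2.image (FreeGroup.map Sum.inr)) ∪
      ((glueRels g b ω).map (FreeGroup.lift V)).toFinset
  let t : α ⊕ β → Matrix.symplecticGroup (Fin (k + 2)) F :=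
    Sum.elim (fun i => S1 (e1 (PresentedGroup.of i))) (fun j => S2 (e2 (PresentedGroup.of j)))
  have htl : (FreeGroup.lift t).comp (FreeGroup.map Sum.inl) =
      (S1.comp e1.toMonoidHom).comp (PresentedGroup.mk _) :=
    FreeGroup.ext_hom _ _ fun i => by simp [t, PresentedGroup.of]
  have htr : (FreeGroup.lift t).comp (FreeGroup.map Sum.inr) =
      (S2.comp e2.toMonoidHom).comp (PresentedGroup.mk _) :=
    FreeGroup.ext_hom _ _ fun i => by simp [t, PresentedGroup.of]
  have htV : (FreeGroup.lift t).comp (FreeGroup.lift V) = FreeGroup.lift (Sum.elim S1 S2) :=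
    FreeGroup.ext_hom _ _ fun x => by
      rw [MonoidHom.comp_apply, FreeGroup.lift_apply_of, FreeGroup.lift_apply_of]
      rcases x with A | M
      · exact (DFunLike.congr_fun htl (v A)).trans (congrArg S1 (hv A))
      · exact (DFunLike.congr_fun htr (w M)).trans (congrArg S2 (hw M))
  have hR : ∀ r ∈ (↑R : Set (FreeGroup (α ⊕ β))), FreeGroup.lift t r = 1 := by
    intro r hr
    rcases Finset.mem_union.1 (Finset.mem_coe.1 hr) with hr | hr
    · rcases Finset.mem_union.1 hr with hr | hr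
      · obtain ⟨x, hx, rfl⟩ := Finset.mem_image.1 hr
        rw [← MonoidHom.comp_apply, htl, MonoidHom.comp_apply, PresentedGroup.one_of_mem (Finset.mem_coe.2 hx),
          map_one]
      · obtain ⟨x, hx, rfl⟩ := Finset.mem_image.1 hr
        rw [← MonoidHom.comp_apply, htr, MonoidHom.comp_apply, PresentedGroup.one_of_mem (Finset.mem_coe.2 hx),
          map_one]
    · obtain ⟨x, hx, rfl⟩ := List.mem_map.1 (List.mem_toFinset.1 hr)
      rw [← MonoidHom.comp_apply, htV]
      exact (glueRels_iff S1 S2).2 ⟨glueSp F k g b ω, rfl, rfl⟩ x hx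
  let θ := PresentedGroup.toGroup hR
  let mk := PresentedGroup.mk (↑R : Set (FreeGroup (α ⊕ β)))
  have hl : ∀ x ∈ (↑R1 : Set (FreeGroup α)), FreeGroup.lift (fun i => mk (FreeGroup.of (Sum.inl i))) x = 1 := by
    intro x hx
    rw [show FreeGroup.lift (fun i => mk (FreeGroup.of (Sum.inl i))) = mk.comp (FreeGroup.map Sum.inl) from
      FreeGroup.ext_hom _ _ fun i => by simp, MonoidHom.comp_apply]
    exact PresentedGroup.one_of_mem (Finset.mem_coe.2 (Finset.mem_union_left _ (Finset.mem_union_left _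
      (Finset.mem_image_of_mem _ (Finset.mem_coe.1 hx)))))
  have hr : ∀ x ∈ (↑R2 : Set (FreeGroup β)), FreeGroup.lift (fun i => mk (FreeGroup.of (Sum.inr i))) x = 1 := by
    intro x hx
    rw [show FreeGroup.lift (fun i => mk (FreeGroup.of (Sum.inr i))) = mk.comp (FreeGroup.map Sum.inr) from
      FreeGroup.ext_hom _ _ fun i => by simp, MonoidHom.comp_apply]
    exact PresentedGroup.one_of_mem (Finset.mem_coe.2 (Finset.mem_union_left _ (Finset.mem_union_right _
      (Finset.mem_image_of_mem _ (Finset.mem_coe.1 hx)))))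
  let ψ := (PresentedGroup.toGroup hl).comp e1.symm.toMonoidHom
  let φ := (PresentedGroup.toGroup hr).comp e2.symm.toMonoidHom
  have hψV : ∀ A, mk (FreeGroup.map Sum.inl (v A)) = ψ A := fun A => by
    show _ = PresentedGroup.toGroup hl (e1.symm A)
    conv_rhs => rw [← hv A, Function.comp_apply, e1.symm_apply_apply]
    exact DFunLike.congr_fun (FreeGroup.ext_hom (mk.comp (FreeGroup.map Sum.inl))
      ((PresentedGroup.toGroup hl).comp (PresentedGroup.mk _)) fun i => by
        simp only [MonoidHom.comp_apply, FreeGroup.map.of]; exact (PresentedGroup.toGroup.of hl).symm) (v A)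
  have hφV : ∀ M, mk (FreeGroup.map Sum.inr (w M)) = φ M := fun M => by
    show _ = PresentedGroup.toGroup hr (e2.symm M)
    conv_rhs => rw [← hw M, Function.comp_apply, e2.symm_apply_apply]
    exact DFunLike.congr_fun (FreeGroup.ext_hom (mk.comp (FreeGroup.map Sum.inr))
      ((PresentedGroup.toGroup hr).comp (PresentedGroup.mk _)) fun i => by
        simp only [MonoidHom.comp_apply, FreeGroup.map.of]; exact (PresentedGroup.toGroup.of hr).symm) (w M)
  have hmkV : mk.comp (FreeGroup.lift V) = FreeGroup.lift (Sum.elim ψ φ) := FreeGroup.ext_hom _ _ fun x => by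
    rw [MonoidHom.comp_apply, FreeGroup.lift_apply_of, FreeGroup.lift_apply_of]
    rcases x with A | M
    · exact hψV A
    · exact hφV M
  have hrel : ∀ r ∈ glueRels g b ω, FreeGroup.lift (Sum.elim ψ φ) r = 1 := fun r hr' => by
    rw [← hmkV]
    exact PresentedGroup.one_of_mem (Finset.mem_coe.2 (Finset.mem_union_right _
      (List.mem_toFinset.2 (List.mem_map_of_mem hr'))))
  obtain ⟨D, hDψ, hDφ⟩ := (glueRels_iff ψ φ).1 hrel
  have hθψ : ∀ A, θ (ψ A) = S1 A := fun A => by
    rw [← hψV]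
    exact (DFunLike.congr_fun htl (v A)).trans (congrArg S1 (hv A))
  have hθφ : ∀ M, θ (φ M) = S2 M := fun M => by
    rw [← hφV]
    exact (DFunLike.congr_fun htr (w M)).trans (congrArg S2 (hw M))
  let P : Pre F (k + 2) (PresentedGroup (↑R : Set (FreeGroup (α ⊕ β)))) := D.toPre hg hb hω
  have hgen : P.gen = ⊤ := by
    rw [eq_top_iff, ← PresentedGroup.closure_range_of (↑R : Set (FreeGroup (α ⊕ β))), Subgroup.closure_le]
    rintro _ ⟨i | j, rfl⟩
    · have h1 : ψ (e1 (PresentedGroup.of i)) = PresentedGroup.of (Sum.inl i) := by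
        show PresentedGroup.toGroup hl (e1.symm (e1 _)) = _
        rw [e1.symm_apply_apply, PresentedGroup.toGroup.of]
        rfl
      rw [← h1, ← hDψ]
      exact P.ψ_mem_gen _
    · have h1 : φ (e2 (PresentedGroup.of j)) = PresentedGroup.of (Sum.inr j) := by
        show PresentedGroup.toGroup hr (e2.symm (e2 _)) = _
        rw [e2.symm_apply_apply, PresentedGroup.toGroup.of]
        rfl
      rw [← h1, ← hDφ, ← D.ph_zero]
      exact P.φ_mem_gen 0 _
  have hrep : Pre.Rep P θ :=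
    { hψ := fun A => by
        show θ (D.ψ A) = _
        rw [hDψ, hθψ]
      hφ := fun i M => by
        show θ (phOf D.ψ D.φ i M) = _
        rw [hDψ, hDφ, ← phOf_levi]
        show θ (ψ _ * φ M * (ψ _)⁻¹) = S1 _ * S2 M * (S1 _)⁻¹
        rw [map_mul, map_mul, map_inv, hθψ, hθφ] }
  refine ⟨R, ?_, Pre.nonempty_equiv (by omega) hgen hrep⟩
  exact (Finset.card_union_le _ _).trans (add_le_add ((Finset.card_union_le _ _).trans
    (add_le_add Finset.card_image_le Finset.card_image_le))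
    ((List.toFinset_card_le _).trans (by rw [List.length_map, length_glueRels])))

end CfsgLib.Known.SpBounded
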