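import Cfsg.Agent.Lib.Known.SpBounded.Mat

/-!
# Matrices fixing the first coordinate vector
-/

set_option autoImplicit false

namespace CfsgLib.Known.SpBounded

open Matrix (SpecialLinearGroup)

variable {F : Type*} [Field F] {k : ℕ}

/-- one more coordinate, in front -/
def pad (d : F) (M : Matrix (Fin k) (Fin k) F) : Matrix (Fin (k + 1)) (Fin (k + 1)) F :=
  Matrix.of fun i j => Fin.cases (Fin.cases d (fun _ => 0) j) (fun a => Fin.cases 0 (fun b => M a b) j) i

@[simp] theorem pad_00 (d : F) (M : Matrix (Fin k) (Fin k) F) : pad d M 0 0 = d := by simp [pad]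
@[simp] theorem pad_0s (d : F) (M : Matrix (Fin k) (Fin k) F) (b : Fin k) : pad d M 0 b.succ = 0 := by simp [pad]
@[simp] theorem pad_s0 (d : F) (M : Matrix (Fin k) (Fin k) F) (a : Fin k) : pad d M a.succ 0 = 0 := by simp [pad]
@[simp] theorem pad_ss (d : F) (M : Matrix (Fin k) (Fin k) F) (a b : Fin k) : pad d M a.succ b.succ = M a b := by
  simp [pad]

theorem pad_ext {M N : Matrix (Fin (k + 1)) (Fin (k + 1)) F} (h00 : M 0 0 = N 0 0)
    (h0s : ∀ b : Fin k, M 0 b.succ = N 0 b.succ) (hs0 : ∀ a : Fin k, M a.succ 0 = N a.succ 0)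
    (hss : ∀ a b : Fin k, M a.succ b.succ = N a.succ b.succ) : M = N := by
  ext i j
  cases i using Fin.cases <;> cases j using Fin.cases
  exacts [h00, h0s _, hs0 _, hss _ _]

theorem pad_mul (c d : F) (M N : Matrix (Fin k) (Fin k) F) : pad c M * pad d N = pad (c * d) (M * N) := by
  apply pad_ext <;> intros <;> simp [Matrix.mul_apply, Fin.sum_univ_succ]

theorem pad_one : pad (1 : F) (1 : Matrix (Fin k) (Fin k) F) = 1 := by
  apply pad_ext <;> intros <;> simp [Matrix.one_apply, Fin.succ_ne_zero, (Fin.succ_ne_zero _).symm]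

theorem pad_transpose (d : F) (M : Matrix (Fin k) (Fin k) F) : (pad d M).transpose = pad d M.transpose := by
  apply pad_ext <;> intros <;> simp [Matrix.transpose_apply]

theorem pad_add (c d : F) (M N : Matrix (Fin k) (Fin k) F) : pad c M + pad d N = pad (c + d) (M + N) := by
  apply pad_ext <;> intros <;> simp

theorem pad_zero : pad (0 : F) (0 : Matrix (Fin k) (Fin k) F) = 0 := by
  apply pad_ext <;> intros <;> simp

theorem pad_Sm (a b : Fin k) (t : F) : pad 0 (Sm a b t) = Sm a.succ b.succ t := by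
  apply pad_ext <;> intros <;>
    simp [Sm_apply, (Fin.succ_ne_zero _).symm]

theorem det_pad (d : F) (M : Matrix (Fin k) (Fin k) F) : (pad d M).det = d * M.det := by
  rw [Matrix.det_succ_row_zero, Fin.sum_univ_succ]
  have : (pad d M).submatrix Fin.succ Fin.succ = M := by ext a b; simp
  simp [this]

/-- `SL k` fixing the first coordinate -/
def bs (k : ℕ) (F : Type*) [Field F] : SpecialLinearGroup (Fin k) F →* SpecialLinearGroup (Fin (k + 1)) F where
  toFun A := ⟨pad 1 A.1, by rw [det_pad, A.2, one_mul]⟩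
  map_one' := Subtype.ext pad_one
  map_mul' A B := Subtype.ext (by
    show pad 1 (A.1 * B.1) = pad 1 A.1 * pad 1 B.1
    rw [pad_mul, one_mul])

theorem coe_bs (A : SpecialLinearGroup (Fin k) F) :
    (bs k F A : Matrix (Fin (k + 1)) (Fin (k + 1)) F) = pad 1 A.1 := rfl

theorem bs_injective : Function.Injective (bs k F) := fun A B h => Subtype.ext (by
  ext a b
  have := congrArg (fun X : SpecialLinearGroup (Fin (k + 1)) F => X.1 a.succ b.succ) h
  simpa [coe_bs] using this)

theorem iot_bs (A : SpecialLinearGroup (Fin k) F) : iot (Fin (k + 1)) F (bs k F A) = bs k F (iot (Fin k) F A) := by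
  refine Subtype.ext ?_
  rw [coe_iot, ← map_inv, coe_bs, coe_bs, coe_iot, pad_transpose]

theorem bs_tA {a b : Fin k} (h : a ≠ b) (t : F) :
    bs k F (tA h t) = tA (fun e => h (Fin.succ_inj.1 e) : a.succ ≠ b.succ) t := by
  refine Subtype.ext ?_
  rw [coe_bs, SpecialLinearGroup.transvection_coe, SpecialLinearGroup.transvection_coe]
  apply pad_ext <;> intros <;>
    simp [Matrix.one_apply, Matrix.single, Fin.succ_ne_zero, (Fin.succ_ne_zero _).symm]

theorem bs_diag {a b : Fin k} (h : a ≠ b) (c : F) (hc : c ≠ 0) :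
    bs k F (SpecialLinearGroup.diag2n h c hc) =
      SpecialLinearGroup.diag2n (fun e => h (Fin.succ_inj.1 e) : a.succ ≠ b.succ) c hc := by
  refine Subtype.ext ?_
  rw [coe_bs, SpecialLinearGroup.diag2n_coe, SpecialLinearGroup.diag2n_coe]
  apply pad_ext <;> intros <;>
    simp [Matrix.diagonal_apply, Fin.succ_ne_zero, (Fin.succ_ne_zero _).symm]

/-- the first coordinate vector -/
def ev (k : ℕ) (F : Type*) [Field F] : Fin (k + 1) → F := Pi.single 0 1

theorem mulVec_ev (M : Matrix (Fin (k + 1)) (Fin (k + 1)) F) (i : Fin (k + 1)) : (M.mulVec (ev k F)) i = M i 0 := by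
  simp [ev, Matrix.mulVec_single]

theorem ev_ne_zero : ev k F ≠ 0 := fun h => by simpa [ev] using congrFun h 0

theorem eq_pad_of_symm {M : Matrix (Fin (k + 1)) (Fin (k + 1)) F} (hM : M.IsSymm) (h : M.mulVec (ev k F) = 0) :
    M = pad 0 (M.submatrix Fin.succ Fin.succ) := by
  have hc : ∀ i, M i 0 = 0 := fun i => (mulVec_ev M i).symm.trans (congrFun h i)
  have hr : ∀ i, M 0 i = 0 := fun i => (hM.apply i 0).trans (hc i)
  apply pad_ext <;> intros <;> simp [hc, hr]

/-- first row `(1, r)`, other rows as in the identity -/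
def rowM (r : Fin k → F) : Matrix (Fin (k + 1)) (Fin (k + 1)) F :=
  Matrix.of fun i j => Fin.cases (Fin.cases 1 r j) (fun a => Fin.cases 0 (fun b => if a = b then 1 else 0) j) i

@[simp] theorem rowM_00 (r : Fin k → F) : rowM r 0 0 = 1 := by simp [rowM]
@[simp] theorem rowM_0s (r : Fin k → F) (b : Fin k) : rowM r 0 b.succ = r b := by simp [rowM]
@[simp] theorem rowM_s0 (r : Fin k → F) (a : Fin k) : rowM r a.succ 0 = 0 := by simp [rowM]
@[simp] theorem rowM_ss (r : Fin k → F) (a b : Fin k) : rowM r a.succ b.succ = if a = b then 1 else 0 := by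
  simp [rowM]

theorem det_rowM (r : Fin k → F) : (rowM r).det = 1 := by
  rw [Matrix.det_succ_column_zero, Fin.sum_univ_succ]
  have : (rowM r).submatrix Fin.succ Fin.succ = 1 := by ext a b; simp [Matrix.one_apply]
  simp [this]

/-- those matrices as a group -/
def rowSL (r : Fin k → F) : SpecialLinearGroup (Fin (k + 1)) F := ⟨rowM r, det_rowM r⟩

theorem coe_rowSL (r : Fin k → F) : (rowSL r : Matrix (Fin (k + 1)) (Fin (k + 1)) F) = rowM r := rfl

theorem rowSL_add (r s : Fin k → F) : rowSL (r + s) = rowSL r * rowSL s := by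
  refine Subtype.ext ?_
  rw [Matrix.SpecialLinearGroup.coe_mul, coe_rowSL, coe_rowSL, coe_rowSL]
  apply pad_ext <;> intros <;> simp [Matrix.mul_apply, Fin.sum_univ_succ, add_comm]

theorem rowSL_zero : rowSL (0 : Fin k → F) = 1 := by
  refine Subtype.ext ?_
  rw [coe_rowSL, Matrix.SpecialLinearGroup.coe_one]
  apply pad_ext <;> intros <;> simp [Matrix.one_apply, Fin.succ_ne_zero, (Fin.succ_ne_zero _).symm]

theorem rowSL_single (b : Fin k) (t : F) :
    rowSL (Pi.single b t) = tA (Fin.succ_ne_zero b).symm t := by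
  refine Subtype.ext ?_
  rw [coe_rowSL, SpecialLinearGroup.transvection_coe]
  apply pad_ext <;> intros <;>
    simp [Matrix.one_apply, Matrix.single, Pi.single_apply, Fin.succ_ne_zero, (Fin.succ_ne_zero _).symm, eq_comm]

/-- a subgroup with the transvections of the first row contains all of that kind -/
theorem rowSL_mem (H : Subgroup (SpecialLinearGroup (Fin (k + 1)) F))
    (h : ∀ (b : Fin k) (t : F), tA (Fin.succ_ne_zero b).symm t ∈ H) (r : Fin k → F) : rowSL r ∈ H := by
  rw [← Finset.univ_sum_single r]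
  refine Finset.sum_induction _ (fun r => rowSL r ∈ H) (fun x y hx hy => ?_) ((rowSL_zero (F := F) (k := k)) ▸ one_mem H) fun b _ => ?_
  · show rowSL (x + y) ∈ H
    rw [rowSL_add]; exact mul_mem hx hy
  · show rowSL (Pi.single b (r b)) ∈ H
    rw [rowSL_single]; exact h _ _

theorem bs_mem (H : Subgroup (SpecialLinearGroup (Fin (k + 1)) F))
    (h : ∀ (a b : Fin k) (hab : a.succ ≠ b.succ) (t : F), tA hab t ∈ H) (A : SpecialLinearGroup (Fin k) F) :
    bs k F A ∈ H := by
  rcases Nat.lt_or_ge k 2 with hk | hk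
  · haveI : Subsingleton (SpecialLinearGroup (Fin k) F) := by
      refine ⟨fun A B => Subtype.ext (Matrix.ext fun i j => ?_)⟩
      obtain rfl : k = 1 := by have := i.2; omega
      obtain rfl : i = 0 := Subsingleton.elim _ _
      obtain rfl : j = 0 := Subsingleton.elim _ _
      rw [← Matrix.det_fin_one A.1, ← Matrix.det_fin_one B.1, A.2, B.2]
    rw [Subsingleton.elim A 1, map_one]
    exact one_mem H
  · haveI : Nontrivial (Fin k) := Fin.nontrivial_iff_two_le.2 hk
    have := CfsgLib.Classical.closure_transvection_eq_top (H.comap (bs k F)) fun a b hab t => by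
      show bs k F (tA hab t) ∈ H
      rw [bs_tA]
      exact h _ _ _ _
    exact (show A ∈ H.comap (bs k F) from this ▸ Subgroup.mem_top A)

/-- the decomposition -/
theorem exists_bs_row {A : SpecialLinearGroup (Fin (k + 1)) F} (hA : A.1.mulVec (ev k F) = ev k F) :
    ∃ B r, A = bs k F B * rowSL r := by
  have h0 : ∀ i, A.1 i 0 = if i = 0 then 1 else 0 := fun i => by
    refine ((mulVec_ev _ i).symm.trans (congrFun hA i)).trans ?_
    rw [ev, Pi.single_apply]
  have hd : (A.1.submatrix Fin.succ Fin.succ).det = 1 := by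
    have h := A.2
    rw [Matrix.det_succ_column_zero, Fin.sum_univ_succ] at h
    simpa [h0, Fin.succ_ne_zero] using h
  refine ⟨⟨A.1.submatrix Fin.succ Fin.succ, hd⟩, fun b => A.1 0 b.succ, Subtype.ext ?_⟩
  show A.1 = pad 1 (A.1.submatrix Fin.succ Fin.succ) * rowM (fun b => A.1 0 b.succ)
  apply pad_ext <;> intros <;> simp [Matrix.mul_apply, Fin.sum_univ_succ, h0, Fin.succ_ne_zero]

/-- subgroups containing the stabiliser of the first vector -/
theorem fix_mem (H : Subgroup (SpecialLinearGroup (Fin (k + 1)) F))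
    (h : ∀ (a b : Fin (k + 1)) (hab : a ≠ b), b ≠ 0 → ∀ t : F, tA hab t ∈ H)
    {A : SpecialLinearGroup (Fin (k + 1)) F} (hA : A.1.mulVec (ev k F) = ev k F) : A ∈ H := by
  obtain ⟨B, r, rfl⟩ := exists_bs_row hA
  exact mul_mem (bs_mem H (fun a b hab t => h _ _ hab (Fin.succ_ne_zero b) t) B)
    (rowSL_mem H (fun b t => h _ _ _ (Fin.succ_ne_zero b) t) r)

end CfsgLib.Known.SpBounded
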