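import Cfsg.Agent.Lib.Known.SpBounded.Pres
import Cfsg.Agent.Lib.Known.SLBounded.Seven
import Cfsg.Agent.Lib.Classical.Symplectic.MatrixStructure

/-!
# Bounded presentations of the symplectic groups
-/

set_option autoImplicit false

namespace CfsgLib.Known.SpBounded

open Matrix (SpecialLinearGroup)

variable {F : Type*} [Field F]

theorem isCyclic_center [Finite F] {m : ℕ} (hm : 1 ≤ m) :
    IsCyclic (Subgroup.center (Matrix.symplecticGroup (Fin m) F)) := by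
  haveI : Fintype F := Fintype.ofFinite F
  have h := CfsgLib.Classical.Symp.card_center_symplecticGroup (F := F) hm
  have hd : Nat.card (Subgroup.center (Matrix.symplecticGroup (Fin m) F)) ∣ 2 := h ▸ Nat.gcd_dvd_left _ _
  rcases (Nat.dvd_prime Nat.prime_two).1 hd with h1 | h2
  · haveI := (Nat.card_eq_one_iff_unique.1 h1).1
    infer_instance
  · haveI : Fact (Nat.Prime 2) := ⟨Nat.prime_two⟩
    exact isCyclic_of_prime_card h2

/-- `SL 2` on three generators, nine relations -/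
theorem sl_two [Finite F] : ∃ R : Finset (FreeGroup (Fin 3)), R.card ≤ 9 ∧
    Nonempty (PresentedGroup (↑R : Set (FreeGroup (Fin 3))) ≃* SpecialLinearGroup (Fin 2) F) := by
  classical
  obtain ⟨p, hp⟩ := CharP.exists F
  haveI : Fact p.Prime := ⟨CharP.char_is_prime F p⟩
  letI := ZMod.algebra F p
  obtain ⟨L, L', h9, -, -, e, -⟩ := CfsgLib.Known.SL2Bounded.presentations F p
  exact ⟨L.toFinset, (List.toFinset_card_le L).trans h9, by rw [List.coe_toFinset]; exact e⟩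

/-- the group of degree four -/
theorem sp_four [Finite F] : ∃ R : Finset (FreeGroup (Fin 6)), R.card ≤ 34 ∧
    Nonempty (PresentedGroup (↑R : Set (FreeGroup (Fin 6))) ≃* Matrix.symplecticGroup (Fin 2) F) := by
  classical
  obtain ⟨R2, h2, ⟨e2⟩⟩ := sl_two (F := F)
  obtain ⟨R, hR, ⟨e⟩⟩ := exists_pres 0 R2 e2 R2 e2
  obtain ⟨R', hR', e'⟩ := SLBounded.reindex_pres (finSumFinEquiv : Fin 3 ⊕ Fin 3 ≃ Fin 6) R e
  exact ⟨R', by omega, e'⟩

/-- the group of degree six -/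
theorem sp_six [Finite F] : ∃ R : Finset (FreeGroup (Fin 8)), R.card ≤ 39 ∧
    Nonempty (PresentedGroup (↑R : Set (FreeGroup (Fin 8))) ≃* Matrix.symplecticGroup (Fin 3) F) := by
  classical
  obtain ⟨p, hp⟩ := CharP.exists F
  haveI : Fact p.Prime := ⟨CharP.char_is_prime F p⟩
  letI := ZMod.algebra F p
  obtain ⟨R2, h2, ⟨e2⟩⟩ := sl_two (F := F)
  obtain ⟨L3, h13, e3'⟩ := CfsgLib.Known.SL3Bounded.presentation_thirteen F p
  have h13' : L3.toFinset.card ≤ 13 := (List.toFinset_card_le L3).trans h13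
  rw [← List.coe_toFinset] at e3'
  obtain ⟨e3⟩ := e3'
  obtain ⟨R, hR, ⟨e⟩⟩ := exists_pres 1 _ e3 R2 e2
  obtain ⟨R7, h7, ⟨e7⟩⟩ := SLBounded.reindex_pres (finSumFinEquiv : Fin 4 ⊕ Fin 3 ≃ Fin 7) R e
  obtain ⟨R', hR', ⟨e'⟩⟩ := SLBounded.pad_gen R7 e7
  obtain ⟨R8, h8, e8⟩ := SLBounded.reindex_pres (finSuccEquiv 7).symm R' e'
  exact ⟨R8, by omega, e8⟩

/-- the groups of degree at least eight on nine generators -/
theorem sp_nine [Finite F] {n : ℕ} (hn : 4 ≤ n) : ∃ R : Finset (FreeGroup (Fin 9)), R.card ≤ 49 ∧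
    Nonempty (PresentedGroup (↑R : Set (FreeGroup (Fin 9))) ≃* Matrix.symplecticGroup (Fin n) F) := by
  classical
  obtain ⟨k, rfl⟩ : ∃ k, n = k + 2 := ⟨n - 2, by omega⟩
  obtain ⟨R2, h2, ⟨e2⟩⟩ := sl_two (F := F)
  obtain ⟨R6, h6, ⟨e6⟩⟩ := SLBounded.sl_six (F := F) hn
  have h24 : R6.card ≤ 24 := h6.trans (by split_ifs <;> norm_num)
  obtain ⟨R, hR, ⟨e⟩⟩ := exists_pres k R6 e6 R2 e2
  obtain ⟨R', hR', e'⟩ := SLBounded.reindex_pres (finSumFinEquiv : Fin 6 ⊕ Fin 3 ≃ Fin 9) R e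
  exact ⟨R', by omega, e'⟩

/-- the groups of degree at least eight on ten generators -/
theorem sp_ten [Finite F] {n : ℕ} (hn : 4 ≤ n) : ∃ R : Finset (FreeGroup (Fin 10)), R.card ≤ 50 ∧
    Nonempty (PresentedGroup (↑R : Set (FreeGroup (Fin 10))) ≃* Matrix.symplecticGroup (Fin n) F) := by
  classical
  obtain ⟨R9, h9, ⟨e9⟩⟩ := sp_nine (F := F) hn
  obtain ⟨R', hR', ⟨e'⟩⟩ := SLBounded.pad_gen R9 e9
  obtain ⟨R10, h10, e10⟩ := SLBounded.reindex_pres (finSuccEquiv 9).symm R' e'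
  exact ⟨R10, by omega, e10⟩

/-- the projective group costs one more relation -/
theorem psp_pres [Finite F] {m : ℕ} (hm : 1 ≤ m) {α : Type*} (R : Finset (FreeGroup α))
    (e : PresentedGroup (↑R : Set (FreeGroup α)) ≃* Matrix.symplecticGroup (Fin m) F) :
    ∃ R' : Finset (FreeGroup α), R'.card ≤ R.card + 1 ∧
      Nonempty (PresentedGroup (↑R' : Set (FreeGroup α)) ≃* Cfsg.PSp m F) :=
  SLBounded.quot_pres R e _ (isCyclic_center hm)

/-- a presentation of the projective group with few relations -/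
theorem psp_few_rels [Finite F] {m : ℕ} (hm : 2 ≤ m) :
    ∃ (α : Type) (_ : Fintype α) (rels : Finset (FreeGroup α)), rels.card ≤ 51 ∧
      Nonempty (PresentedGroup (↑rels : Set (FreeGroup α)) ≃* Cfsg.PSp m F) := by
  rcases (show m = 2 ∨ m = 3 ∨ 4 ≤ m by omega) with rfl | rfl | h
  · obtain ⟨R, hR, ⟨e⟩⟩ := sp_four (F := F)
    obtain ⟨R', hR', e'⟩ := psp_pres (by omega) R e
    exact ⟨Fin 6, inferInstance, R', by omega, e'⟩
  · obtain ⟨R, hR, ⟨e⟩⟩ := sp_six (F := F)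
    obtain ⟨R', hR', e'⟩ := psp_pres (by omega) R e
    exact ⟨Fin 8, inferInstance, R', by omega, e'⟩
  · obtain ⟨R, hR, ⟨e⟩⟩ := sp_nine (F := F) h
    obtain ⟨R', hR', e'⟩ := psp_pres (by omega) R e
    exact ⟨Fin 9, inferInstance, R', by omega, e'⟩

end CfsgLib.Known.SpBounded
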