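import Cfsg.Agent.Lib.Known.SpBounded.Canon

/-!
# The symplectic group satisfies the sixteen relations
-/

set_option autoImplicit false

namespace CfsgLib.Known.SpBounded

open Matrix (SpecialLinearGroup fromBlocks)
open CfsgLib.Known.ClassicalSections (leviSp)

variable {F : Type*} [Field F] {m k : ℕ}

theorem row_of_iot {B : SpecialLinearGroup (Fin (k + 1)) F} {j : Fin (k + 1)}
    (h : iot _ F B • ev k F = Pi.single j 1) (l : Fin (k + 1)) : B.1 j l = if l = 0 then 1 else 0 := by
  have h' : iot _ F B⁻¹ • (Pi.single j 1 : Fin (k + 1) → F) = ev k F := by rw [map_inv, ← h, inv_smul_smul]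
  rw [← smul_eq_mv, coe_iot_inv] at h'
  have := congrFun h' l
  rw [Matrix.mulVec_single_one] at this
  simpa [Matrix.col, ev, Pi.single_apply] using this

theorem col_of_smul {B : SpecialLinearGroup (Fin (k + 1)) F} {j : Fin (k + 1)}
    (h : B • ev k F = Pi.single j 1) (l : Fin (k + 1)) : B.1 l 0 = if l = j then 1 else 0 := by
  rw [← smul_eq_mv] at h
  refine ((mulVec_ev _ l).symm.trans (congrFun h l)).trans ?_
  rw [Pi.single_apply]

theorem mul_single00 {P Q : Matrix (Fin (k + 1)) (Fin (k + 1)) F} {j : Fin (k + 1)}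
    (hP : ∀ l, P l 0 = if l = j then 1 else 0) (hQ : ∀ l, Q j l = if l = 0 then 1 else 0) (x : F) :
    P * Matrix.single 0 0 x = Matrix.single j j x * Q := by
  ext a c
  rw [Matrix.mul_apply, Matrix.mul_apply, Finset.sum_eq_single 0, Finset.sum_eq_single j]
  · by_cases ha : a = j <;> by_cases hc : c = 0 <;> simp [hP, hQ, Matrix.single, ha, hc, Ne.symm]
    all_goals simp [Ne.symm ha] at *
  · intro l _ hl; simp [Matrix.single, Ne.symm hl]
  · simp
  · intro l _ hl; simp [Matrix.single, Ne.symm hl]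
  · simp

theorem conj_s2 {A : SpecialLinearGroup (Fin (k + 1)) F} {j : Fin (k + 1)}
    (h1 : A • ev k F = Pi.single j 1) (h2 : iot _ F A • ev k F = Pi.single j 1)
    (M : SpecialLinearGroup (Fin 2) F) : leviSp (k + 1) A * s2 0 M * (leviSp (k + 1) A)⁻¹ = s2 j M := by
  rw [mul_inv_eq_iff_eq_mul]
  refine Subtype.ext ?_
  have c1 := col_of_smul h1
  have c2 := col_of_smul h2
  have r1 := row_of_iot h2
  have r2 : ∀ l, (iot _ F A).1 j l = if l = 0 then 1 else 0 := row_of_iot (by rwa [iot_iot])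
  rw [Submonoid.coe_mul, Submonoid.coe_mul, coe_leviSp, coe_s2, coe_s2, s2m, s2m]
  simp only [Matrix.fromBlocks_multiply, Matrix.mul_zero, Matrix.zero_mul, add_zero, zero_add, mul_add, add_mul,
    mul_one, one_mul]
  rw [mul_single00 c1 r1, mul_single00 c1 r2, mul_single00 c2 r1, mul_single00 c2 r2]

theorem s2_blk (M : SpecialLinearGroup (Fin 2) F) (B : SpecialLinearGroup (Fin k) F) :
    Commute (s2 0 M) (leviSp (k + 1) (bs k F B)) := by
  refine Subtype.ext ?_
  rw [Submonoid.coe_mul, Submonoid.coe_mul, coe_leviSp, coe_s2, s2m, iot_bs, coe_bs, coe_bs]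
  have e : ∀ (x : F) (C : Matrix (Fin k) (Fin k) F),
      pad 1 C * Matrix.single 0 0 x = Matrix.single 0 0 x * pad 1 C := fun x C =>
    mul_single00 (fun l => by cases l using Fin.cases <;> simp [Fin.succ_ne_zero])
      (fun l => by cases l using Fin.cases <;> simp [Fin.succ_ne_zero]) x
  have e' : ∀ (x : F) (C D : Matrix (Fin k) (Fin k) F),
      pad 1 C * Matrix.single 0 0 x = Matrix.single 0 0 x * pad 1 D := fun x C D =>
    mul_single00 (fun l => by cases l using Fin.cases <;> simp [Fin.succ_ne_zero])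
      (fun l => by cases l using Fin.cases <;> simp [Fin.succ_ne_zero]) x
  simp only [Matrix.fromBlocks_multiply, Matrix.mul_zero, Matrix.zero_mul, add_zero, zero_add, mul_add, add_mul,
    mul_one, one_mul]
  rw [e' _ B.1 B.1, e' _ B.1 (iot _ F B).1, e' _ (iot _ F B).1 B.1, e' _ (iot _ F B).1 (iot _ F B).1]

theorem s2_lng {i j : Fin m} (h : i ≠ j) (M N : SpecialLinearGroup (Fin 2) F) :
    Commute (s2 i M) (s2 j N) := by
  refine Subtype.ext ?_
  rw [Submonoid.coe_mul, Submonoid.coe_mul, coe_s2, coe_s2]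
  simp [s2m, Matrix.fromBlocks_multiply, add_mul, mul_add, Matrix.single_mul_single_of_ne, h, Ne.symm h]
  and_intros <;> abel

theorem s2_tor {i j : Fin m} (h : i ≠ j) {c : F} (hc : c ≠ 0) :
    leviSp m (SpecialLinearGroup.diag2n h c hc) = s2 i (hd c hc) * s2 j (hd c⁻¹ (inv_ne_zero hc)) := by
  refine Subtype.ext ?_
  rw [Submonoid.coe_mul, coe_leviSp, coe_s2, coe_s2, iot_diag, SpecialLinearGroup.diag2n_coe,
    SpecialLinearGroup.diag2n_coe, hd_coe, hd_coe]
  simp [s2m, Matrix.fromBlocks_multiply, add_mul, mul_add, Matrix.single_mul_single_of_ne, h]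
  ext a b
  rcases a with a | a <;> rcases b with b | b <;> by_cases hab : a = b <;> by_cases hi : a = i <;>
    by_cases hj : a = j <;>
    simp [Matrix.diagonal_apply, Matrix.one_apply, Matrix.single, hab, hi, hj, h, Ne.symm h, eq_comm] <;>
    simp_all [eq_comm]

theorem s2_nrm {i j : Fin m} (h : i ≠ j) {c : F} (hc : c ≠ 0) (t : F) :
    s2 i (hd c hc) * leviSp m (tA h t) * (s2 i (hd c hc))⁻¹ = leviSp m (tA h (c * t)) := by
  rw [mul_inv_eq_iff_eq_mul]
  refine Subtype.ext ?_
  rw [Submonoid.coe_mul, Submonoid.coe_mul, coe_leviSp, coe_leviSp, coe_s2, iot_tr, iot_tr, hd_coe]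
  simp [s2m, SpecialLinearGroup.transvection_coe, Matrix.fromBlocks_multiply, add_mul, mul_add,
    Matrix.single_mul_single_of_ne, Matrix.single_mul_single_same, h, Ne.symm h]
  refine ⟨?_, ?_⟩ <;> ext a b <;>
    simp only [Matrix.add_apply, Matrix.neg_apply, Matrix.one_apply, Matrix.single, Matrix.of_apply] <;>
    split_ifs <;> first | ring1 | (field_simp; ring1) | simp_all

theorem s2_nrm' {i j : Fin m} (h : j ≠ i) {c : F} (hc : c ≠ 0) (t : F) :
    s2 i (hd c hc) * leviSp m (tA h t) * (s2 i (hd c hc))⁻¹ = leviSp m (tA h (c⁻¹ * t)) := by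
  rw [mul_inv_eq_iff_eq_mul]
  refine Subtype.ext ?_
  rw [Submonoid.coe_mul, Submonoid.coe_mul, coe_leviSp, coe_leviSp, coe_s2, iot_tr, iot_tr, hd_coe]
  simp [s2m, SpecialLinearGroup.transvection_coe, Matrix.fromBlocks_multiply, add_mul, mul_add,
    Matrix.single_mul_single_of_ne, Matrix.single_mul_single_same, h, Ne.symm h]
  refine ⟨?_, ?_⟩ <;> ext a b <;>
    simp only [Matrix.add_apply, Matrix.neg_apply, Matrix.one_apply, Matrix.single, Matrix.of_apply] <;>
    split_ifs <;> first | ring1 | (field_simp; ring1) | simp_all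

theorem s2_fx {i j : Fin m} (h : i ≠ j) (s t : F) : Commute (s2 i (xp s)) (leviSp m (tA h t)) := by
  refine Subtype.ext ?_
  rw [Submonoid.coe_mul, Submonoid.coe_mul, coe_leviSp, coe_s2, iot_tr, xp_coe]
  simp [s2m, SpecialLinearGroup.transvection_coe, Matrix.fromBlocks_multiply, add_mul, mul_add,
    Matrix.single_mul_single_of_ne, h, Ne.symm h, add_comm]

theorem s2_fx' {i j : Fin m} (h : j ≠ i) (s t : F) : Commute (s2 i (xm s)) (leviSp m (tA h t)) := by
  refine Subtype.ext ?_
  rw [Submonoid.coe_mul, Submonoid.coe_mul, coe_leviSp, coe_s2, iot_tr, xm_coe]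
  simp [s2m, SpecialLinearGroup.transvection_coe, Matrix.fromBlocks_multiply, add_mul, mul_add,
    Matrix.single_mul_single_of_ne, h, Ne.symm h, add_comm]

theorem s2_root {i j : Fin m} (h : i ≠ j) (t : F) :
    ((s2 j (wS F) * leviSp m (tA h t) * (s2 j (wS F))⁻¹ : Matrix.symplecticGroup (Fin m) F) :
      Matrix (Fin m ⊕ Fin m) (Fin m ⊕ Fin m) F) = fromBlocks 1 (Sm i j (-t)) 0 1 := by
  rw [← map_inv, Submonoid.coe_mul, Submonoid.coe_mul, coe_s2, coe_s2, coe_leviSp, iot_tr, ← mu_wS, coe_mu]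
  simp only [SpecialLinearGroup.transvection_coe, wS_coe, s2m, Matrix.fromBlocks_multiply, Matrix.fromBlocks_inj]
  have hji : j ≠ i := Ne.symm h
  simp [Sm, h, hji, add_mul, mul_add, Matrix.single_mul_single_same, Matrix.single_mul_single_of_ne,
    ← Matrix.single_add]
  refine ⟨?_, ?_, ?_⟩ <;> ext a b <;>
    simp only [Matrix.add_apply, Matrix.one_apply, Matrix.single, Matrix.of_apply] <;>
    split_ifs <;> first | ring1 | simp_all

theorem s2_root' {i j : Fin m} (h : j ≠ i) (t : F) :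
    (((s2 j (wS F))⁻¹ * leviSp m (tA h t) * s2 j (wS F) : Matrix.symplecticGroup (Fin m) F) :
      Matrix (Fin m ⊕ Fin m) (Fin m ⊕ Fin m) F) = fromBlocks 1 0 (Sm i j t) 1 := by
  rw [← map_inv, Submonoid.coe_mul, Submonoid.coe_mul, coe_s2, coe_s2, coe_leviSp, iot_tr, ← mu_wS, coe_mu]
  simp only [SpecialLinearGroup.transvection_coe, wS_coe, s2m, Matrix.fromBlocks_multiply, Matrix.fromBlocks_inj]
  have hji : i ≠ j := Ne.symm h
  simp [Sm, h, hji, add_mul, mul_add, Matrix.single_mul_single_same, Matrix.single_mul_single_of_ne,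
    ← Matrix.single_add]
  refine ⟨?_, ?_, ?_⟩ <;> ext a b <;>
    simp only [Matrix.add_apply, Matrix.one_apply, Matrix.single, Matrix.of_apply] <;>
    split_ifs <;> first | ring1 | simp_all

theorem s2_sym {i j : Fin m} (h : i ≠ j) (t : F) :
    s2 j (wS F) * leviSp m (tA h t) * (s2 j (wS F))⁻¹ = s2 i (wS F) * leviSp m (tA h.symm t) * (s2 i (wS F))⁻¹ :=
  Subtype.ext (by rw [s2_root, s2_root, Sm_comm])

theorem s2_form {i j : Fin m} (h : i ≠ j) :
    leviSp m (tA h.symm (1 : F)) * s2 i (xp 1) * (leviSp m (tA h.symm 1))⁻¹ =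
      s2 i (xp 1) * (s2 j (wS F) * leviSp m (tA h (-1)) * (s2 j (wS F))⁻¹) * s2 j (xp 1) := by
  rw [mul_inv_eq_iff_eq_mul]
  refine Subtype.ext ?_
  rw [Submonoid.coe_mul, Submonoid.coe_mul, Submonoid.coe_mul, Submonoid.coe_mul, s2_root, coe_leviSp, coe_s2,
    coe_s2, iot_tr, xp_coe]
  simp [s2m, Sm, SpecialLinearGroup.transvection_coe, Matrix.fromBlocks_multiply, add_mul, mul_add,
    Matrix.single_mul_single_same, Matrix.single_mul_single_of_ne, h, Ne.symm h]
  ext a b
  simp only [Matrix.add_apply, Matrix.neg_apply, Matrix.one_apply, Matrix.single, Matrix.of_apply] <;>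
    split_ifs <;> first | ring1 | simp_all

theorem s2_form' {i j : Fin m} (h : i ≠ j) :
    leviSp m (tA h (-1 : F)) * s2 i (xm 1) * (leviSp m (tA h (-1)))⁻¹ =
      s2 i (xm 1) * ((s2 j (wS F))⁻¹ * leviSp m (tA h.symm 1) * s2 j (wS F)) * s2 j (xm 1) := by
  rw [mul_inv_eq_iff_eq_mul]
  refine Subtype.ext ?_
  rw [Submonoid.coe_mul, Submonoid.coe_mul, Submonoid.coe_mul, Submonoid.coe_mul, s2_root', coe_leviSp, coe_s2,
    coe_s2, iot_tr, xm_coe]
  simp [s2m, Sm, SpecialLinearGroup.transvection_coe, Matrix.fromBlocks_multiply, add_mul, mul_add,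
    Matrix.single_mul_single_same, Matrix.single_mul_single_of_ne, h, Ne.symm h]
  ext a b
  simp only [Matrix.add_apply, Matrix.neg_apply, Matrix.one_apply, Matrix.single, Matrix.of_apply] <;>
    split_ifs <;> first | ring1 | simp_all

theorem phOf_levi (j : Fin (k + 2)) (M : SpecialLinearGroup (Fin 2) F) :
    phOf (leviSp (F := F) (k + 2)) (s2 0) j M = s2 j M := by
  refine conj_s2 ?_ ?_ M
  · rw [ev, mono_single, Equiv.swap_apply_left, msgn_zero, mul_one]
  · rw [ev, iot_mono_single, Equiv.swap_apply_left, msgn_zero, mul_one]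

/-- the symplectic group with the sixteen relations -/
noncomputable def glueSp (F : Type*) [Field F] (k : ℕ) (g : Fin 2 → SpecialLinearGroup (Fin 2) F)
    (b : Fin 2 → SpecialLinearGroup (Fin (k + 1)) F) (ω : Fˣ) :
    Glue F k g b ω (Matrix.symplecticGroup (Fin (k + 2)) F) where
  ψ := leviSp (k + 2)
  φ := s2 0
  blk _ _ := s2_blk _ _
  lng a c := by rw [phOf_levi]; exact s2_lng zero_ne_one _ _
  tor := by rw [phOf_levi]; exact s2_tor zero_ne_one _
  nrm := by
    have e := s2_nrm (zero_ne_one (α := Fin (k + 2))) ω.ne_zero (1 : F)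
    rwa [mul_one] at e
  nrm' := by
    have e := s2_nrm' (one_ne_zero (α := Fin (k + 2))) ω.ne_zero (1 : F)
    rwa [mul_one] at e
  fx := s2_fx _ _ _
  fx' := s2_fx' _ _ _
  sym := by rw [phOf_levi]; exact s2_sym _ _
  form := by rw [phOf_levi, phOf_levi]; exact s2_form zero_ne_one
  form' := by rw [phOf_levi, phOf_levi]; exact s2_form' zero_ne_one

end CfsgLib.Known.SpBounded
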