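import Cfsg.Agent.Lib.Classical.SLGroup

/-!
# The relations between a copy of `SL m` and rank one groups giving `Sp 2m`
-/

set_option autoImplicit false

namespace CfsgLib.Known.SpBounded

open Matrix (SpecialLinearGroup)

variable {F : Type*} [Field F]

/-- inverse transpose -/
def iot (ι : Type*) [Fintype ι] [DecidableEq ι] (F : Type*) [Field F] :
    SpecialLinearGroup ι F →* SpecialLinearGroup ι F where
  toFun A := ⟨((A⁻¹ : SpecialLinearGroup ι F) : Matrix ι ι F).transpose,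
    by rw [Matrix.det_transpose]; exact (A⁻¹).2⟩
  map_one' := Subtype.ext (by simp)
  map_mul' A B := Subtype.ext (by
    show ((A * B)⁻¹ : SpecialLinearGroup ι F).1.transpose =
      ((A⁻¹ : SpecialLinearGroup ι F)).1.transpose * ((B⁻¹ : SpecialLinearGroup ι F)).1.transpose
    rw [_root_.mul_inv_rev, Matrix.SpecialLinearGroup.coe_mul, Matrix.transpose_mul])

theorem coe_iot {ι : Type*} [Fintype ι] [DecidableEq ι] (A : SpecialLinearGroup ι F) :
    (iot ι F A : Matrix ι ι F) = ((A⁻¹ : SpecialLinearGroup ι F) : Matrix ι ι F).transpose := rfl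

theorem iot_iot {ι : Type*} [Fintype ι] [DecidableEq ι] (A : SpecialLinearGroup ι F) :
    iot ι F (iot ι F A) = A := by
  refine Subtype.ext ?_
  rw [coe_iot, ← map_inv, coe_iot, inv_inv, Matrix.transpose_transpose]

theorem iot_tr {ι : Type*} [Fintype ι] [DecidableEq ι] {i j : ι} (hij : i ≠ j) (t : F) :
    iot ι F (SpecialLinearGroup.transvection hij t) = SpecialLinearGroup.transvection hij.symm (-t) := by
  refine Subtype.ext ?_
  rw [coe_iot, Matrix.SpecialLinearGroup.transvection_inv]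
  show (Matrix.transvection i j (-t)).transpose = Matrix.transvection j i (-t)
  simp [Matrix.transvection, Matrix.transpose_single]

theorem iot_diag {ι : Type*} [Fintype ι] [DecidableEq ι] {i j : ι} (hij : i ≠ j) {c : F} (hc : c ≠ 0) :
    iot ι F (SpecialLinearGroup.diag2n hij c hc) = SpecialLinearGroup.diag2n hij c⁻¹ (inv_ne_zero hc) := by
  have e : (SpecialLinearGroup.diag2n hij c hc)⁻¹ = SpecialLinearGroup.diag2n hij c⁻¹ (inv_ne_zero hc) := by
    refine inv_eq_of_mul_eq_one_right (CfsgLib.Classical.sl_ext_smul fun x => funext fun k => ?_)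
    rw [mul_smul, CfsgLib.Classical.diag2n_smul_apply, CfsgLib.Classical.diag2n_smul_apply, one_smul]
    split_ifs <;> field_simp
  refine Subtype.ext ?_
  rw [coe_iot, e, SpecialLinearGroup.diag2n_coe, Matrix.diagonal_transpose]

/-- swapping the two coordinates -/
def mu (F : Type*) [Field F] : SpecialLinearGroup (Fin 2) F →* SpecialLinearGroup (Fin 2) F where
  toFun A := ⟨A.1.submatrix (Equiv.swap 0 1) (Equiv.swap 0 1), by rw [Matrix.det_submatrix_equiv_self]; exact A.2⟩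
  map_one' := Subtype.ext (by simp)
  map_mul' A B := Subtype.ext (by
    simp only [Matrix.SpecialLinearGroup.coe_mul]
    exact (Matrix.submatrix_mul_equiv A.1 B.1 _ (Equiv.swap (0 : Fin 2) 1) _).symm)

theorem coe_mu (A : SpecialLinearGroup (Fin 2) F) :
    (mu F A : Matrix (Fin 2) (Fin 2) F) = A.1.submatrix (Equiv.swap 0 1) (Equiv.swap 0 1) := rfl

theorem mu_mu (A : SpecialLinearGroup (Fin 2) F) : mu F (mu F A) = A := by
  refine Subtype.ext ?_
  rw [coe_mu, coe_mu]
  ext i j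
  simp

/-- upper root element -/
def xp (t : F) : SpecialLinearGroup (Fin 2) F :=
  SpecialLinearGroup.transvection (show (0 : Fin 2) ≠ 1 by decide) t

/-- lower root element -/
def xm (t : F) : SpecialLinearGroup (Fin 2) F :=
  SpecialLinearGroup.transvection (show (1 : Fin 2) ≠ 0 by decide) t

/-- torus element -/
noncomputable def hd (c : F) (hc : c ≠ 0) : SpecialLinearGroup (Fin 2) F :=
  SpecialLinearGroup.diag2n (show (0 : Fin 2) ≠ 1 by decide) c hc

/-- Weyl element -/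
def wS (F : Type*) [Field F] : SpecialLinearGroup (Fin 2) F := xp 1 * xm (-1) * xp 1

theorem xp_coe (t : F) : (xp t : Matrix (Fin 2) (Fin 2) F) = !![1, t; 0, 1] := by
  rw [xp, SpecialLinearGroup.transvection_coe]
  ext i j
  fin_cases i <;> fin_cases j <;> simp

theorem xm_coe (t : F) : (xm t : Matrix (Fin 2) (Fin 2) F) = !![1, 0; t, 1] := by
  rw [xm, SpecialLinearGroup.transvection_coe]
  ext i j
  fin_cases i <;> fin_cases j <;> simp

theorem hd_coe {c : F} (hc : c ≠ 0) : (hd c hc : Matrix (Fin 2) (Fin 2) F) = !![c, 0; 0, c⁻¹] := by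
  rw [hd, SpecialLinearGroup.diag2n_coe]
  ext i j
  fin_cases i <;> fin_cases j <;> simp

theorem wS_coe : (wS F : Matrix (Fin 2) (Fin 2) F) = !![0, 1; -1, 0] := by
  rw [wS, Matrix.SpecialLinearGroup.coe_mul, Matrix.SpecialLinearGroup.coe_mul, xp_coe, xm_coe]
  ext i j
  fin_cases i <;> fin_cases j <;> simp

theorem xp_add (s t : F) : xp s * xp t = xp (s + t) := Subtype.ext (by
  rw [Matrix.SpecialLinearGroup.coe_mul, xp_coe, xp_coe, xp_coe]
  ext i j
  fin_cases i <;> fin_cases j <;> simp [add_comm])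

theorem mu_xp (t : F) : mu F (xp t) = xm t := Subtype.ext (by
  rw [coe_mu, xp_coe, xm_coe]
  ext i j
  fin_cases i <;> fin_cases j <;> simp)

theorem mu_xm (t : F) : mu F (xm t) = xp t := by rw [← mu_xp, mu_mu]

theorem mu_hd {c : F} (hc : c ≠ 0) : mu F (hd c hc) = hd c⁻¹ (inv_ne_zero hc) := Subtype.ext (by
  rw [coe_mu, hd_coe, hd_coe]
  ext i j
  fin_cases i <;> fin_cases j <;> simp)

theorem mu_wS : mu F (wS F) = (wS F)⁻¹ := eq_inv_of_mul_eq_one_left (Subtype.ext (by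
  rw [Matrix.SpecialLinearGroup.coe_mul, coe_mu, wS_coe, Matrix.SpecialLinearGroup.coe_one]
  ext i j
  fin_cases i <;> fin_cases j <;> simp [Matrix.mul_apply, Fin.sum_univ_two]))

theorem wS_sq : wS F * wS F = hd (-1) (neg_ne_zero.2 one_ne_zero) := Subtype.ext (by
  rw [Matrix.SpecialLinearGroup.coe_mul, wS_coe, hd_coe]
  ext i j
  fin_cases i <;> fin_cases j <;> simp)

theorem hd_wS_sq {c : F} (hc : c ≠ 0) : Commute (hd c hc) (wS F * wS F) := by
  rw [wS_sq]
  refine Subtype.ext ?_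
  rw [Matrix.SpecialLinearGroup.coe_mul, Matrix.SpecialLinearGroup.coe_mul, hd_coe, hd_coe]
  ext i j
  fin_cases i <;> fin_cases j <;> simp

/-- transvection of `SL m` -/
abbrev tA {m : ℕ} {i j : Fin m} (h : i ≠ j) (t : F) : SpecialLinearGroup (Fin m) F :=
  SpecialLinearGroup.transvection h t

/-- the relations -/
structure Pre (F : Type*) [Field F] (m : ℕ) (G : Type*) [Group G] where
  ψ : SpecialLinearGroup (Fin m) F →* G
  φ : Fin m → SpecialLinearGroup (Fin 2) F →* G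
  fix : ∀ (i k l : Fin m) (h : k ≠ l), k ≠ i → l ≠ i → ∀ M t, Commute (φ i M) (ψ (tA h t))
  long : ∀ i j : Fin m, i ≠ j → ∀ M N, Commute (φ i M) (φ j N)
  tor : ∀ (i j : Fin m) (h : i ≠ j) (c : F) (hc : c ≠ 0),
    ψ (SpecialLinearGroup.diag2n h c hc) = φ i (hd c hc) * φ j (hd c⁻¹ (inv_ne_zero hc))
  nrm : ∀ (i j : Fin m) (h : i ≠ j) (c : F) (hc : c ≠ 0) (t : F),
    φ i (hd c hc) * ψ (tA h t) * (φ i (hd c hc))⁻¹ = ψ (tA h (c * t))
  nrm' : ∀ (i j : Fin m) (h : j ≠ i) (c : F) (hc : c ≠ 0) (t : F),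
    φ i (hd c hc) * ψ (tA h t) * (φ i (hd c hc))⁻¹ = ψ (tA h (c⁻¹ * t))
  fx : ∀ (i j : Fin m) (h : i ≠ j) (s t : F), Commute (φ i (xp s)) (ψ (tA h t))
  fx' : ∀ (i j : Fin m) (h : j ≠ i) (s t : F), Commute (φ i (xm s)) (ψ (tA h t))
  sym : ∀ (i j : Fin m) (h : i ≠ j) (t : F),
    φ j (wS F) * ψ (tA h t) * (φ j (wS F))⁻¹ = φ i (wS F) * ψ (tA h.symm t) * (φ i (wS F))⁻¹
  form : ∀ (i j : Fin m) (h : i ≠ j) (s t : F),
    ψ (tA h.symm s) * φ i (xp t) * (ψ (tA h.symm s))⁻¹ =
      φ i (xp t) * (φ j (wS F) * ψ (tA h (-(s * t))) * (φ j (wS F))⁻¹) * φ j (xp (s * s * t))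
  form' : ∀ (i j : Fin m) (h : i ≠ j) (s t : F),
    ψ (tA h (-s)) * φ i (xm t) * (ψ (tA h (-s)))⁻¹ =
      φ i (xm t) * ((φ j (wS F))⁻¹ * ψ (tA h.symm (s * t)) * φ j (wS F)) * φ j (xm (s * s * t))

namespace Pre

variable {m : ℕ} {G : Type*} [Group G] (R : Pre F m G)

theorem tA_add {i j : Fin m} (h : i ≠ j) (s t : F) : tA h s * tA h t = tA h (s + t) :=
  CfsgLib.Classical.sl_ext_smul fun x => funext fun k => by
    simp only [tA, mul_smul, CfsgLib.Classical.transvection_smul_apply, if_neg h.symm]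
    split_ifs <;> ring

theorem w_sq (i : Fin m) : R.φ i (wS F) * R.φ i (wS F) = R.φ i (hd (-1) (neg_ne_zero.2 one_ne_zero)) := by
  rw [← map_mul, wS_sq]

theorem hd_w_row {i j : Fin m} (h : i ≠ j) (t : F) :
    (R.φ i (wS F))⁻¹ * R.ψ (tA h t) * R.φ i (wS F) = R.φ i (wS F) * R.ψ (tA h (-t)) * (R.φ i (wS F))⁻¹ := by
  obtain ⟨W, hW⟩ : ∃ W, W = R.φ i (wS F) := ⟨_, rfl⟩
  have h1 := R.nrm i j h (-1) (neg_ne_zero.2 one_ne_zero) t
  rw [← R.w_sq, neg_one_mul, ← hW] at h1
  rw [← hW, ← h1, _root_.mul_inv_rev]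
  have h2 := R.nrm i j h (-1) (neg_ne_zero.2 one_ne_zero) (-t)
  rw [← R.w_sq, neg_one_mul, neg_neg, ← hW] at h2
  calc W⁻¹ * R.ψ (tA h t) * W = W⁻¹ * (W * W * R.ψ (tA h (-t)) * (W * W)⁻¹) * W := by rw [h2]
    _ = W * R.ψ (tA h (-t)) * W⁻¹ := by group
    _ = _ := by rw [← h1]; group

theorem hd_w_col {i j : Fin m} (h : j ≠ i) (t : F) :
    (R.φ i (wS F))⁻¹ * R.ψ (tA h t) * R.φ i (wS F) = R.φ i (wS F) * R.ψ (tA h (-t)) * (R.φ i (wS F))⁻¹ := by
  obtain ⟨W, hW⟩ : ∃ W, W = R.φ i (wS F) := ⟨_, rfl⟩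
  have h2 := R.nrm' i j h (-1) (neg_ne_zero.2 one_ne_zero) (-t)
  rw [← R.w_sq, inv_neg, inv_one, neg_one_mul, neg_neg, ← hW] at h2
  rw [← hW]
  calc W⁻¹ * R.ψ (tA h t) * W = W⁻¹ * (W * W * R.ψ (tA h (-t)) * (W * W)⁻¹) * W := by rw [h2]
    _ = _ := by group

/-- exchanging the two halves -/
def flip : Pre F m G where
  ψ := R.ψ.comp (iot (Fin m) F)
  φ i := (R.φ i).comp (mu F)
  fix i k l h h1 h2 M t := by
    simp only [MonoidHom.comp_apply, iot_tr]
    exact R.fix i l k h.symm h2 h1 _ _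
  long i j h M N := R.long i j h _ _
  tor i j h c hc := by
    simp only [MonoidHom.comp_apply, iot_diag, mu_hd]
    exact R.tor i j h c⁻¹ (inv_ne_zero hc)
  nrm i j h c hc t := by
    simp only [MonoidHom.comp_apply, iot_tr, mu_hd]
    rw [R.nrm' i j h.symm c⁻¹ (inv_ne_zero hc), inv_inv, mul_neg]
  nrm' i j h c hc t := by
    simp only [MonoidHom.comp_apply, iot_tr, mu_hd]
    rw [R.nrm i j h.symm c⁻¹ (inv_ne_zero hc), mul_neg]
  fx i j h s t := by
    simp only [MonoidHom.comp_apply, iot_tr, mu_xp]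
    exact R.fx' i j h.symm _ _
  fx' i j h s t := by
    simp only [MonoidHom.comp_apply, iot_tr, mu_xm]
    exact R.fx i j h.symm _ _
  sym i j h t := by
    simp only [MonoidHom.comp_apply, iot_tr, mu_wS, map_inv, inv_inv]
    have e := R.sym i j h (-t)
    have hc : Commute (R.φ i (wS F)) (R.φ j (wS F)) := R.long i j h _ _
    generalize R.φ i (wS F) = A at e hc
    generalize R.φ j (wS F) = B at e hc
    calc B⁻¹ * R.ψ (tA h.symm (-t)) * B
        = B⁻¹ * A⁻¹ * (A * R.ψ (tA h.symm (-t)) * A⁻¹) * (A * B) := by group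
      _ = (A * B)⁻¹ * (B * R.ψ (tA h (-t)) * B⁻¹) * (A * B) := by rw [e, _root_.mul_inv_rev]
      _ = A⁻¹ * R.ψ (tA h (-t)) * A := by rw [hc.eq]; group
  form i j h s t := by
    simp only [MonoidHom.comp_apply, iot_tr, mu_wS, mu_xp, map_inv, inv_inv, neg_neg]
    exact R.form' i j h s t
  form' i j h s t := by
    simp only [MonoidHom.comp_apply, iot_tr, mu_wS, mu_xm, map_inv, inv_inv, neg_neg]
    exact R.form i j h s t

/-- symmetric root elements -/
def uu (i j : Fin m) (t : F) : G :=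
  if h : i = j then R.φ i (xp t) else R.φ j (wS F) * R.ψ (tA h (-t)) * (R.φ j (wS F))⁻¹

theorem uu_self (i : Fin m) (t : F) : R.uu i i t = R.φ i (xp t) := dif_pos rfl

theorem uu_ne {i j : Fin m} (h : i ≠ j) (t : F) :
    R.uu i j t = R.φ j (wS F) * R.ψ (tA h (-t)) * (R.φ j (wS F))⁻¹ := dif_neg h

theorem uu_symm (i j : Fin m) (t : F) : R.uu i j t = R.uu j i t := by
  by_cases h : i = j
  · rw [h]
  · rw [R.uu_ne h, R.uu_ne (Ne.symm h), R.sym i j h]

theorem uu_add (i j : Fin m) (s t : F) : R.uu i j s * R.uu i j t = R.uu i j (s + t) := by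
  by_cases h : i = j
  · subst h; rw [R.uu_self, R.uu_self, R.uu_self, ← map_mul, xp_add]
  · rw [R.uu_ne h, R.uu_ne h, R.uu_ne h, neg_add, ← tA_add h, map_mul]; group

theorem uu_zero (i j : Fin m) : R.uu i j 0 = 1 := by
  have := R.uu_add i j (0 : F) 0
  rw [add_zero] at this
  exact mul_eq_left.1 this

theorem form_uu {i j : Fin m} (h : i ≠ j) (s t : F) :
    R.ψ (tA h.symm s) * R.uu i i t * (R.ψ (tA h.symm s))⁻¹ =
      R.uu i i t * R.uu i j (s * t) * R.uu j j (s * s * t) := by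
  rw [R.uu_self, R.uu_self, R.uu_ne h]; exact R.form i j h s t

theorem tA_comm {i j k l : Fin m} (hij : i ≠ j) (hkl : k ≠ l) (hjk : j ≠ k) (hil : i ≠ l) (s t : F) :
    Commute (tA hij s) (tA hkl t) :=
  CfsgLib.Classical.sl_ext_smul fun x => funext fun a => by
    simp only [tA, mul_smul, CfsgLib.Classical.transvection_smul_apply, if_neg hjk, if_neg hil.symm]
    split_ifs <;> ring

/-- diagonal elements fixed -/
theorem fix_diag {i k l : Fin m} (h : k ≠ l) (hl : l ≠ i) (s t : F) : Commute (R.ψ (tA h s)) (R.uu i i t) := by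
  rw [R.uu_self]
  by_cases hk : k = i
  · subst hk; exact (R.fx k l h t s).symm
  · exact (R.fix i k l h hk hl _ _).symm

theorem fix_uu {i j k l : Fin m} (h : k ≠ l) (hi : l ≠ i) (hj : l ≠ j) (s t : F) :
    Commute (R.ψ (tA h s)) (R.uu i j t) := by
  by_cases hij : i = j
  · subst hij; exact R.fix_diag h hi s t
  have key : ∀ a b, a ≠ b → l ≠ a → l ≠ b → k ≠ b → Commute (R.ψ (tA h s)) (R.uu a b t) := by
    intro a b hab hla hlb hkb
    rw [R.uu_ne hab]
    have h1 : Commute (R.ψ (tA h s)) (R.φ b (wS F)) := (R.fix b k l h hkb hlb _ _).symm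
    have h2 : Commute (R.ψ (tA h s)) (R.ψ (tA hab (-t))) := (tA_comm h hab hla hkb s (-t)).map R.ψ
    exact (h1.mul_right h2).mul_right h1.inv_right
  by_cases hk : k = j
  · rw [R.uu_symm]
    exact key j i (Ne.symm hij) hj hi (fun e => hij (e.symm.trans hk))
  · exact key i j hij hi hj hk

theorem move_uu {i j k : Fin m} (hij : i ≠ j) (hki : k ≠ i) (hkj : k ≠ j) (s t : F) :
    R.ψ (tA hki s) * R.uu i j t * (R.ψ (tA hki s))⁻¹ = R.uu i j t * R.uu k j (s * t) := by
  have hc : Commute (R.ψ (tA hki s)) (R.φ j (wS F)) := (R.fix j k i hki hkj hij _ _).symm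
  have e : tA hki s * tA hij (-t) * (tA hki s)⁻¹ = tA hij (-t) * tA hkj (-(s * t)) := by
    rw [mul_inv_eq_iff_eq_mul]
    refine CfsgLib.Classical.sl_ext_smul fun x => funext fun a => ?_
    simp only [tA, mul_smul, CfsgLib.Classical.transvection_smul_apply, if_neg hki.symm, if_neg hij.symm,
      if_neg hkj.symm]
    by_cases ha : a = k
    · subst ha; simp [hki]; ring
    · simp [ha]
  rw [R.uu_ne hij, R.uu_ne hkj]
  calc R.ψ (tA hki s) * (R.φ j (wS F) * R.ψ (tA hij (-t)) * (R.φ j (wS F))⁻¹) * (R.ψ (tA hki s))⁻¹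
      = R.φ j (wS F) * (R.ψ (tA hki s) * R.ψ (tA hij (-t)) * (R.ψ (tA hki s))⁻¹) * (R.φ j (wS F))⁻¹ := by
        rw [show R.ψ (tA hki s) * (R.φ j (wS F) * R.ψ (tA hij (-t)) * (R.φ j (wS F))⁻¹) * (R.ψ (tA hki s))⁻¹ =
          (R.ψ (tA hki s) * R.φ j (wS F)) * R.ψ (tA hij (-t)) * (R.ψ (tA hki s) * R.φ j (wS F))⁻¹ by group, hc.eq]
        group
    _ = _ := by rw [← map_inv, ← map_mul, ← map_mul, e, map_mul]; group

theorem comm_diag (i a b : Fin m) (s t : F) : Commute (R.uu i i s) (R.uu a b t) := by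
  rw [R.uu_self]
  by_cases hab : a = b
  · subst hab
    rw [R.uu_self]
    by_cases h : i = a
    · subst h; rw [commute_iff_eq, ← map_mul, ← map_mul, xp_add, xp_add, add_comm]
    · exact R.long i a h _ _
  have key : ∀ a b, a ≠ b → i ≠ b → Commute (R.φ i (xp s)) (R.uu a b t) := by
    intro a b hab hib
    rw [R.uu_ne hab]
    have h1 : Commute (R.φ i (xp s)) (R.φ b (wS F)) := R.long i b hib _ _
    have h2 : Commute (R.φ i (xp s)) (R.ψ (tA hab (-t))) := by
      have := R.fix_diag hab (Ne.symm hib) (-t) s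
      rw [R.uu_self] at this
      exact this.symm
    exact (h1.mul_right h2).mul_right h1.inv_right
  by_cases hib : i = b
  · rw [R.uu_symm]; exact key b a (Ne.symm hab) (fun e => hab (e.symm.trans hib))
  · exact key a b hab hib

theorem comm_uu (a b c d : Fin m) (s t : F) : Commute (R.uu a b s) (R.uu c d t) := by
  by_cases hab : a = b
  · subst hab; exact R.comm_diag a c d s t
  by_cases hcd : c = d
  · subst hcd; exact (R.comm_diag c a b t s).symm
  have key : ∀ c d, c ≠ d → c ≠ a → c ≠ b → Commute (R.uu a b s) (R.uu d c t) := by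
    intro c d hcd hca hcb
    -- `uu d c` comes from conjugating a diagonal element by a transvection
    have e : R.uu d c t = (R.uu d d t)⁻¹ * (R.ψ (tA hcd 1) * R.uu d d t * (R.ψ (tA hcd 1))⁻¹) *
        (R.uu c c t)⁻¹ := by
      rw [R.form_uu hcd.symm, one_mul, one_mul, one_mul]
      group
    rw [e]
    by_cases hd : d ≠ a ∧ d ≠ b
    · have h1 := (R.fix_uu hcd hd.1 hd.2 (1 : F) s).symm
      exact (((R.comm_diag d a b t s).symm.inv_right).mul_right
        ((h1.mul_right (R.comm_diag d a b t s).symm).mul_right h1.inv_right)).mul_right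
        (R.comm_diag c a b t s).symm.inv_right
    · -- use the other transvection
      rw [← e, R.uu_symm d c]
      have e' : R.uu c d t = (R.uu c c t)⁻¹ * (R.ψ (tA hcd.symm 1) * R.uu c c t * (R.ψ (tA hcd.symm 1))⁻¹) *
          (R.uu d d t)⁻¹ := by
        rw [R.form_uu hcd, one_mul, one_mul, one_mul]
        group
      rw [e']
      have h1 := (R.fix_uu hcd.symm hca hcb (1 : F) s).symm
      exact (((R.comm_diag c a b t s).symm.inv_right).mul_right
        ((h1.mul_right (R.comm_diag c a b t s).symm).mul_right h1.inv_right)).mul_right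
        (R.comm_diag d a b t s).symm.inv_right
  by_cases hc : c ≠ a ∧ c ≠ b
  · rw [R.uu_symm c d]; exact key c d hcd hc.1 hc.2
  by_cases hd : d ≠ a ∧ d ≠ b
  · exact key d c (Ne.symm hcd) hd.1 hd.2
  have hsame : R.uu c d t = R.uu a b t := by
    simp only [not_and_or, not_not] at hc hd
    rcases hc with rfl | rfl <;> rcases hd with rfl | rfl
    · exact absurd rfl hcd
    · rfl
    · exact R.uu_symm _ _ _
    · exact absurd rfl hcd
  rw [hsame, commute_iff_eq, R.uu_add, R.uu_add, add_comm]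

theorem conj_side {i j : Fin m} (hij : i ≠ j) (s t : F) :
    R.ψ (tA hij.symm s) * R.uu i j t * (R.ψ (tA hij.symm s))⁻¹ = R.uu i j t * R.uu j j (2 * s * t) := by
  obtain ⟨X, hX⟩ : ∃ X, X = R.ψ (tA hij.symm s) := ⟨_, rfl⟩
  have h1 := R.form_uu hij (1 : F) t
  have h2 := R.form_uu hij (s + 1) t
  rw [← tA_add hij.symm, map_mul, ← hX] at h2
  simp only [one_mul] at h1
  have hXj : Commute X (R.uu j j t) := hX ▸ R.fix_diag hij.symm hij s t
  have h3 : X * (R.uu i i t * R.uu i j t * R.uu j j t) * X⁻¹ =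
      R.uu i i t * R.uu i j ((s + 1) * t) * R.uu j j ((s + 1) * (s + 1) * t) := by
    rw [← h1, ← h2]; group
  have h4 := R.form_uu hij s t
  rw [← hX] at h4
  rw [Elem_conj, Elem_conj, h4, show X * R.uu j j t * X⁻¹ = R.uu j j t by rw [hXj.eq, mul_inv_cancel_right]] at h3
  rw [← hX]
  obtain ⟨Y, hY⟩ : ∃ Y, Y = X * R.uu i j t * X⁻¹ := ⟨_, rfl⟩
  rw [← hY] at h3 ⊢
  have e1 : R.uu i j ((s + 1) * t) = R.uu i j (s * t) * R.uu i j t := by rw [R.uu_add]; congr 1; ring
  have e2 : R.uu j j ((s + 1) * (s + 1) * t) = R.uu j j (s * s * t) * R.uu j j (2 * s * t) * R.uu j j t := by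
    rw [R.uu_add, R.uu_add]; congr 1; ring
  rw [e1, e2] at h3
  calc Y = (R.uu i i t * R.uu i j (s * t) * R.uu j j (s * s * t))⁻¹ *
        (R.uu i i t * R.uu i j (s * t) * R.uu j j (s * s * t) * Y * R.uu j j t) * (R.uu j j t)⁻¹ := by group
    _ = (R.uu j j (s * s * t))⁻¹ * (R.uu i j t * R.uu j j (s * s * t)) * R.uu j j (2 * s * t) := by
      rw [h3]; group
    _ = _ := by rw [(R.comm_uu i j j j t (s * s * t)).eq, inv_mul_cancel_left]
where
  Elem_conj {a b x : G} : x * (a * b) * x⁻¹ = x * a * x⁻¹ * (x * b * x⁻¹) := by group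

end Pre

end CfsgLib.Known.SpBounded
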