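import Cfsg.Agent.Lib.Known.SpBounded.Mono
import Cfsg.Agent.Lib.Classical.SLExplicitGenerators

/-!
# Sixteen relations imply all
-/

set_option autoImplicit false

namespace CfsgLib.Known.SpBounded

open Matrix (SpecialLinearGroup)

variable {F : Type*} [Field F] {k : ℕ} {G : Type*} [Group G]

theorem commute_of_closure {A B : Type*} [Group A] [Group B] {S : Set A} {T : Set B}
    (hS : Subgroup.closure S = ⊤) (hT : Subgroup.closure T = ⊤) (f : A →* G) (h : B →* G)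
    (hc : ∀ a ∈ S, ∀ b ∈ T, Commute (f a) (h b)) (a : A) (b : B) : Commute (f a) (h b) := by
  have h1 : ∀ a ∈ S, ∀ b, Commute (f a) (h b) := fun a ha b => by
    have : b ∈ Subgroup.closure T := hT ▸ Subgroup.mem_top b
    induction this using Subgroup.closure_induction with
    | mem x hx => exact hc a ha x hx
    | one => rw [map_one]; exact Commute.one_right _
    | mul x y _ _ hx hy => rw [map_mul]; exact hx.mul_right hy
    | inv x _ hx => rw [map_inv]; exact hx.inv_right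
  have : a ∈ Subgroup.closure S := hS ▸ Subgroup.mem_top a
  induction this using Subgroup.closure_induction with
  | mem x hx => exact h1 x hx b
  | one => rw [map_one]; exact Commute.one_left _
  | mul x y _ _ hx hy => rw [map_mul]; exact hx.mul_left hy
  | inv x _ hx => rw [map_inv]; exact hx.inv_left

/-- moving the rank one group to another coordinate -/
def phOf (ψ : SpecialLinearGroup (Fin (k + 2)) F →* G) (φ : SpecialLinearGroup (Fin 2) F →* G) (j : Fin (k + 2)) :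
    SpecialLinearGroup (Fin 2) F →* G :=
  (MulAut.conj (ψ (mono F (Equiv.swap 0 j)))).toMonoidHom.comp φ

/-- the sixteen relations -/
structure Glue (F : Type*) [Field F] (k : ℕ) (g : Fin 2 → SpecialLinearGroup (Fin 2) F)
    (b : Fin 2 → SpecialLinearGroup (Fin (k + 1)) F) (ω : Fˣ) (G : Type*) [Group G] where
  ψ : SpecialLinearGroup (Fin (k + 2)) F →* G
  φ : SpecialLinearGroup (Fin 2) F →* G
  blk : ∀ a c, Commute (φ (g a)) (ψ (bs (k + 1) F (b c)))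
  lng : ∀ a c, Commute (φ (g a)) (phOf ψ φ 1 (g c))
  tor : ψ (SpecialLinearGroup.diag2n (zero_ne_one (α := Fin (k + 2))) (ω : F) ω.ne_zero) =
    φ (hd (ω : F) ω.ne_zero) * phOf ψ φ 1 (hd (ω : F)⁻¹ (inv_ne_zero ω.ne_zero))
  nrm : φ (hd (ω : F) ω.ne_zero) * ψ (tA (zero_ne_one (α := Fin (k + 2))) (1 : F)) *
    (φ (hd (ω : F) ω.ne_zero))⁻¹ = ψ (tA zero_ne_one (ω : F))
  nrm' : φ (hd (ω : F) ω.ne_zero) * ψ (tA (one_ne_zero (α := Fin (k + 2))) (1 : F)) *
    (φ (hd (ω : F) ω.ne_zero))⁻¹ = ψ (tA one_ne_zero (ω : F)⁻¹)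
  fx : Commute (φ (xp 1)) (ψ (tA (zero_ne_one (α := Fin (k + 2))) 1))
  fx' : Commute (φ (xm 1)) (ψ (tA (one_ne_zero (α := Fin (k + 2))) 1))
  sym : phOf ψ φ 1 (wS F) * ψ (tA (zero_ne_one (α := Fin (k + 2))) 1) * (phOf ψ φ 1 (wS F))⁻¹ =
    φ (wS F) * ψ (tA one_ne_zero 1) * (φ (wS F))⁻¹
  form : ψ (tA (one_ne_zero (α := Fin (k + 2))) 1) * φ (xp 1) * (ψ (tA one_ne_zero 1))⁻¹ =
    φ (xp 1) * (phOf ψ φ 1 (wS F) * ψ (tA zero_ne_one (-1)) * (phOf ψ φ 1 (wS F))⁻¹) * phOf ψ φ 1 (xp 1)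
  form' : ψ (tA (zero_ne_one (α := Fin (k + 2))) (-1)) * φ (xm 1) * (ψ (tA zero_ne_one (-1)))⁻¹ =
    φ (xm 1) * ((phOf ψ φ 1 (wS F))⁻¹ * ψ (tA one_ne_zero 1) * phOf ψ φ 1 (wS F)) * phOf ψ φ 1 (xm 1)

theorem hd_mul {a b : F} (ha : a ≠ 0) (hb : b ≠ 0) : hd a ha * hd b hb = hd (a * b) (mul_ne_zero ha hb) :=
  Subtype.ext (by
    rw [Matrix.SpecialLinearGroup.coe_mul, hd_coe, hd_coe, hd_coe]
    ext i j
    fin_cases i <;> fin_cases j <;> simp [mul_comm])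

theorem hd_inv {a : F} (ha : a ≠ 0) : (hd a ha)⁻¹ = hd a⁻¹ (inv_ne_zero ha) :=
  inv_eq_of_mul_eq_one_left (hd_mul_inv ha)

theorem hd_one : hd (1 : F) one_ne_zero = 1 := Subtype.ext (by
  rw [hd_coe, Matrix.SpecialLinearGroup.coe_one]
  ext i j
  fin_cases i <;> fin_cases j <;> simp)

theorem hd_eq_one {c : F} (hc : c ≠ 0) (h : c = 1) : hd c hc = 1 := by
  subst h; exact hd_one

theorem hd_comm {a b : F} (ha : a ≠ 0) (hb : b ≠ 0) : Commute (hd a ha) (hd b hb) := by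
  rw [commute_iff_eq, hd_mul, hd_mul]; congr 1; exact mul_comm a b

theorem hd_xp {a : F} (ha : a ≠ 0) (t : F) : hd a ha * xp t = xp (a * t * a) * hd a ha := Subtype.ext (by
  rw [Matrix.SpecialLinearGroup.coe_mul, Matrix.SpecialLinearGroup.coe_mul, hd_coe, xp_coe, xp_coe]
  ext i j
  fin_cases i <;> fin_cases j <;> simp [ha])

theorem hd_xm {a : F} (ha : a ≠ 0) (t : F) : hd a ha * xm t = xm (a⁻¹ * t * a⁻¹) * hd a ha := Subtype.ext (by
  rw [Matrix.SpecialLinearGroup.coe_mul, Matrix.SpecialLinearGroup.coe_mul, hd_coe, xm_coe, xm_coe]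
  ext i j
  fin_cases i <;> fin_cases j <;> simp [ha])

theorem hd_wS {a : F} (ha : a ≠ 0) : hd a ha * wS F = wS F * hd a⁻¹ (inv_ne_zero ha) := Subtype.ext (by
  rw [Matrix.SpecialLinearGroup.coe_mul, Matrix.SpecialLinearGroup.coe_mul, hd_coe, hd_coe, wS_coe]
  ext i j
  fin_cases i <;> fin_cases j <;> simp)

theorem hd_central {a : F} (ha : a ≠ 0) (h : a * a = 1) (M : SpecialLinearGroup (Fin 2) F) :
    hd a ha * M = M * hd a ha := by
  have h' : a⁻¹ = a := inv_eq_of_mul_eq_one_right h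
  refine Subtype.ext ?_
  rw [Matrix.SpecialLinearGroup.coe_mul, Matrix.SpecialLinearGroup.coe_mul, hd_coe, h']
  ext i j
  fin_cases i <;> fin_cases j <;> simp [Matrix.mul_apply, Fin.sum_univ_two, mul_comm]

theorem xm_add (s t : F) : xm s * xm t = xm (s + t) := by
  rw [← mu_xp, ← mu_xp, ← map_mul, xp_add, mu_xp]

theorem xp_zero : xp (0 : F) = 1 := by
  have := xp_add (0 : F) 0
  rw [add_zero] at this
  exact mul_eq_left.1 this

theorem xm_zero : xm (0 : F) = 1 := by rw [← mu_xp, xp_zero, map_one]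

theorem tA_zero {m : ℕ} {i j : Fin m} (h : i ≠ j) : tA h (0 : F) = 1 := by
  have := Pre.tA_add h (0 : F) 0
  rw [add_zero] at this
  exact mul_eq_left.1 this

theorem diag_tA01 {m : ℕ} {i j : Fin m} (h : i ≠ j) {a : F} (ha : a ≠ 0) (t : F) :
    SpecialLinearGroup.diag2n h a ha * tA h t = tA h (a * t * a) * SpecialLinearGroup.diag2n h a ha :=
  CfsgLib.Classical.sl_ext_smul fun x => funext fun l => by
    simp only [tA, mul_smul, CfsgLib.Classical.transvection_smul_apply, CfsgLib.Classical.diag2n_smul_apply,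
      if_neg h, if_neg h.symm]
    by_cases hl : l = i
    · subst hl; simp [h, h.symm]; field_simp
    · simp [hl]

theorem diag_tA10 {m : ℕ} {i j : Fin m} (h : i ≠ j) {a : F} (ha : a ≠ 0) (t : F) :
    SpecialLinearGroup.diag2n h a ha * tA h.symm t = tA h.symm (a⁻¹ * t * a⁻¹) * SpecialLinearGroup.diag2n h a ha :=
  CfsgLib.Classical.sl_ext_smul fun x => funext fun l => by
    simp only [tA, mul_smul, CfsgLib.Classical.transvection_smul_apply, CfsgLib.Classical.diag2n_smul_apply,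
      if_neg h, if_neg h.symm]
    by_cases hl : l = j
    · subst hl; simp [h, h.symm]; field_simp
    · simp [hl]

theorem diag_mul {m : ℕ} {i j : Fin m} (h : i ≠ j) {a b : F} (ha : a ≠ 0) (hb : b ≠ 0) :
    SpecialLinearGroup.diag2n h a ha * SpecialLinearGroup.diag2n h b hb =
      SpecialLinearGroup.diag2n h (a * b) (mul_ne_zero ha hb) :=
  CfsgLib.Classical.sl_ext_smul fun x => funext fun l => by
    simp only [mul_smul, CfsgLib.Classical.diag2n_smul_apply]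
    split_ifs <;> field_simp

theorem diag_one {m : ℕ} {i j : Fin m} (h : i ≠ j) :
    SpecialLinearGroup.diag2n h (1 : F) one_ne_zero = 1 :=
  CfsgLib.Classical.sl_ext_smul fun x => funext fun l => by
    rw [CfsgLib.Classical.diag2n_smul_apply, one_smul]
    simp

theorem diag_eq_one {m : ℕ} {i j : Fin m} (h : i ≠ j) {c : F} (hc : c ≠ 0) (e : c = 1) :
    SpecialLinearGroup.diag2n h c hc = 1 := by
  subst e; exact diag_one h

/-- additive predicates holding on the squares hold everywhere -/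
theorem forall_of_sq [Finite F] {P : F → Prop} (hadd : ∀ s t, P s → P t → P (s + t)) (hsq : ∀ a, P (a * a))
    (t : F) : P t := by
  haveI : Fintype F := Fintype.ofFinite F
  obtain ⟨a, b, rfl⟩ := CfsgLib.Classical.exists_sum_two_sq t
  exact hadd _ _ (hsq a) (hsq b)

namespace Glue

variable {g : Fin 2 → SpecialLinearGroup (Fin 2) F} {b : Fin 2 → SpecialLinearGroup (Fin (k + 1)) F} {ω : Fˣ}
  (D : Glue F k g b ω G)

/-- the rank one groups -/
def ph (j : Fin (k + 2)) : SpecialLinearGroup (Fin 2) F →* G := phOf D.ψ D.φ j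

theorem ph_apply (j : Fin (k + 2)) (M : SpecialLinearGroup (Fin 2) F) :
    D.ph j M = D.ψ (mono F (Equiv.swap 0 j)) * D.φ M * (D.ψ (mono F (Equiv.swap 0 j)))⁻¹ := rfl

theorem ph_zero (M : SpecialLinearGroup (Fin 2) F) : D.ph 0 M = D.φ M := by
  rw [ph_apply, Equiv.swap_self]
  show D.ψ (mono F 1) * _ * (D.ψ (mono F 1))⁻¹ = _
  rw [mono_one, map_one, one_mul, inv_one, mul_one]

variable (hg : Subgroup.closure (Set.range g) = ⊤) (hb : Subgroup.closure (Set.range b) = ⊤)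
  (hω : ∀ x : Fˣ, x ∈ Subgroup.zpowers ω)

include hb hg in
theorem blk_all (M : SpecialLinearGroup (Fin 2) F) (B : SpecialLinearGroup (Fin (k + 1)) F) :
    Commute (D.φ M) (D.ψ (bs (k + 1) F B)) :=
  commute_of_closure hg hb D.φ (D.ψ.comp (bs (k + 1) F)) (by
    rintro _ ⟨a, rfl⟩ _ ⟨c, rfl⟩
    exact D.blk a c) M B

include hg in
theorem lng_all (M N : SpecialLinearGroup (Fin 2) F) : Commute (D.φ M) (D.ph 1 N) :=
  commute_of_closure hg hg D.φ (D.ph 1) (by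
    rintro _ ⟨a, rfl⟩ _ ⟨c, rfl⟩
    exact D.lng a c) M N

include hω in
theorem unit_pow [Finite F] {c : F} (hc : c ≠ 0) : ∃ n : ℕ, (ω : F) ^ n = c := by
  obtain ⟨n, hn⟩ : ∃ n : ℕ, ω ^ n = Units.mk0 c hc := mem_powers_iff_mem_zpowers.2 (hω _)
  exact ⟨n, by rw [← Units.val_pow_eq_pow_val, hn, Units.val_mk0]⟩

include hg hω in
theorem tor_all [Finite F] {c : F} (hc : c ≠ 0) :
    D.ψ (SpecialLinearGroup.diag2n (zero_ne_one (α := Fin (k + 2))) c hc) =
      D.φ (hd c hc) * D.ph 1 (hd c⁻¹ (inv_ne_zero hc)) := by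
  obtain ⟨n, rfl⟩ := unit_pow hω hc
  induction n with
  | zero =>
    have e1 : hd ((ω : F) ^ 0)⁻¹ (inv_ne_zero hc) = 1 := by
      rw [show hd ((ω : F) ^ 0)⁻¹ (inv_ne_zero hc) = hd (1 : F) one_ne_zero by congr 1; simp, hd_one]
    have e2 : hd ((ω : F) ^ 0) hc = 1 := hd_eq_one hc (pow_zero _)
    rw [e1, e2, map_one, map_one, one_mul,
      diag_eq_one _ hc (pow_zero _), map_one]
  | succ n ih =>
    have hn : (ω : F) ^ n ≠ 0 := pow_ne_zero n ω.ne_zero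
    have e1 : SpecialLinearGroup.diag2n (zero_ne_one (α := Fin (k + 2))) ((ω : F) ^ (n + 1)) hc =
        SpecialLinearGroup.diag2n zero_ne_one ((ω : F) ^ n) hn *
          SpecialLinearGroup.diag2n zero_ne_one (ω : F) ω.ne_zero := by
      rw [diag_mul]; congr 1; exact pow_succ _ _
    have e2 : hd ((ω : F) ^ (n + 1)) hc = hd ((ω : F) ^ n) hn * hd (ω : F) ω.ne_zero := by
      rw [hd_mul]; congr 1; exact pow_succ _ _
    have e3 : hd ((ω : F) ^ (n + 1))⁻¹ (inv_ne_zero hc) =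
        hd ((ω : F) ^ n)⁻¹ (inv_ne_zero hn) * hd (ω : F)⁻¹ (inv_ne_zero ω.ne_zero) := by
      rw [hd_mul]; congr 1; rw [pow_succ, mul_inv]
    rw [e1, e2, e3, map_mul, map_mul, map_mul, ih hn, D.tor]
    rw [mul_assoc, ← mul_assoc (D.ph 1 _) (D.φ _), ← (D.lng_all hg (hd (ω : F) ω.ne_zero) _).eq, mul_assoc, mul_assoc]
    rfl

include hg hω in
theorem torD [Finite F] {c : F} (hc : c ≠ 0) (M : SpecialLinearGroup (Fin 2) F) :
    D.ψ (SpecialLinearGroup.diag2n (zero_ne_one (α := Fin (k + 2))) c hc) * D.φ M *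
      (D.ψ (SpecialLinearGroup.diag2n zero_ne_one c hc))⁻¹ = D.φ (hd c hc * M * (hd c hc)⁻¹) := by
  rw [D.tor_all hg hω hc, map_mul, map_mul, map_inv, mul_assoc (D.φ (hd c hc)), ← (D.lng_all hg M _).eq]
  group

include hb hg in
theorem E_one {A : SpecialLinearGroup (Fin (k + 2)) F} {j : Fin (k + 2)}
    (h1 : A • ev (k + 1) F = Pi.single j 1) (h2 : iot _ F A • ev (k + 1) F = Pi.single j 1)
    (M : SpecialLinearGroup (Fin 2) F) : D.ψ A * D.φ M * (D.ψ A)⁻¹ = D.ph j M := by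
  obtain ⟨C, hC⟩ : ∃ C, C = (mono F (Equiv.swap 0 j))⁻¹ * A := ⟨_, rfl⟩
  have hA : A = mono F (Equiv.swap 0 j) * C := by rw [hC, mul_inv_cancel_left]
  have e0 : mono F (Equiv.swap 0 j) • ev (k + 1) F = Pi.single j 1 := by
    rw [ev, mono_single, Equiv.swap_apply_left, msgn_zero, mul_one]
  have hc1 : C.1.mulVec (ev (k + 1) F) = ev (k + 1) F := by
    rw [smul_eq_mv, hC, mul_smul, h1, ← e0, inv_smul_smul]
  have hc2 : (iot _ F C).1.mulVec (ev (k + 1) F) = ev (k + 1) F := by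
    rw [smul_eq_mv, hC, map_mul, mul_smul, h2, map_inv, iot_mono, ← e0, inv_smul_smul]
  obtain ⟨B, r, hBr⟩ := exists_bs_row hc1
  have hr : r = 0 := by
    have h3 : (iot _ F (rowSL r)).1.mulVec (ev (k + 1) F) = ev (k + 1) F := by
      rw [hBr, map_mul, iot_bs, smul_eq_mv, mul_smul] at hc2
      rw [smul_eq_mv]
      refine (inv_smul_smul (bs (k + 1) F (iot _ F B)) _).symm.trans ?_
      rw [hc2, inv_smul_eq_iff, ← smul_eq_mv, coe_bs, pad_mulVec_ev, one_smul]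
    have h4 : (iot _ F (rowSL r)⁻¹).1.mulVec (ev (k + 1) F) = ev (k + 1) F := by
      rw [map_inv, smul_eq_mv, inv_smul_eq_iff, ← smul_eq_mv, h3]
    rw [coe_iot_inv] at h4
    funext i
    have := (mulVec_ev _ i.succ).symm.trans (congrFun h4 i.succ)
    simpa [coe_rowSL, ev] using this
  rw [hA, hBr, hr, rowSL_zero, mul_one, map_mul, ph_apply,
    show D.ψ (mono F (Equiv.swap 0 j)) * D.ψ (bs (k + 1) F B) * D.φ M *
      (D.ψ (mono F (Equiv.swap 0 j)) * D.ψ (bs (k + 1) F B))⁻¹ =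
    D.ψ (mono F (Equiv.swap 0 j)) * (D.ψ (bs (k + 1) F B) * D.φ M * (D.ψ (bs (k + 1) F B))⁻¹) *
      (D.ψ (mono F (Equiv.swap 0 j)))⁻¹ by group, ← (D.blk_all hg hb M B).eq, mul_inv_cancel_right]

include hb hg hω in
theorem mono_ph [Finite F] (σ : Equiv.Perm (Fin (k + 2))) (l : Fin (k + 2)) (M : SpecialLinearGroup (Fin 2) F) :
    D.ψ (mono F σ) * D.ph l M * (D.ψ (mono F σ))⁻¹ = D.ph (σ l) M := by
  obtain ⟨c, hc⟩ : ∃ c, c = msgn F σ l := ⟨_, rfl⟩
  have hcc : c * c = 1 := hc ▸ msgn_sq σ l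
  have hc0 : c ≠ 0 := hc ▸ msgn_ne σ l
  have hc' : c⁻¹ = c := inv_eq_of_mul_eq_one_right hcc
  obtain ⟨A, hA⟩ : ∃ A, A = mono F σ * mono F (Equiv.swap 0 l) *
      SpecialLinearGroup.diag2n (zero_ne_one (α := Fin (k + 2))) c hc0 := ⟨_, rfl⟩
  have hdiag : ∀ (d : F) (hd : d ≠ 0), SpecialLinearGroup.diag2n (zero_ne_one (α := Fin (k + 2))) d hd •
      ev (k + 1) F = Pi.single 0 d := fun d hd => funext fun a => by
    rw [CfsgLib.Classical.diag2n_smul_apply, ev]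
    by_cases ha : a = 0
    · subst ha; simp
    · simp [ha]
  have h1 : A • ev (k + 1) F = Pi.single (σ l) 1 := by
    rw [hA, mul_smul, mul_smul, hdiag, mono_single, mono_single, Equiv.swap_apply_left, msgn_zero, ← hc, one_mul, hcc]
  have h2 : iot _ F A • ev (k + 1) F = Pi.single (σ l) 1 := by
    rw [hA, map_mul, map_mul, iot_diag, iot_mono, iot_mono, mul_smul, mul_smul, hdiag, mono_single, mono_single,
      Equiv.swap_apply_left, msgn_zero, ← hc, one_mul, hc', hcc]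
  rw [← D.E_one hg hb h1 h2, hA, map_mul, map_mul,
    show D.ψ (mono F σ) * D.ψ (mono F (Equiv.swap 0 l)) * D.ψ (SpecialLinearGroup.diag2n zero_ne_one c hc0) * D.φ M *
      (D.ψ (mono F σ) * D.ψ (mono F (Equiv.swap 0 l)) * D.ψ (SpecialLinearGroup.diag2n zero_ne_one c hc0))⁻¹ =
    D.ψ (mono F σ) * (D.ψ (mono F (Equiv.swap 0 l)) * (D.ψ (SpecialLinearGroup.diag2n zero_ne_one c hc0) * D.φ M *
      (D.ψ (SpecialLinearGroup.diag2n zero_ne_one c hc0))⁻¹) * (D.ψ (mono F (Equiv.swap 0 l)))⁻¹) *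
      (D.ψ (mono F σ))⁻¹ by group, D.torD hg hω, hd_central hc0 hcc, mul_inv_cancel_right, ph_apply]

/-- moving everything by a monomial element -/
def cjm (σ : Equiv.Perm (Fin (k + 2))) : G →* G := (MulAut.conj (D.ψ (mono F σ))).toMonoidHom

theorem cjm_tA (σ : Equiv.Perm (Fin (k + 2))) {i j : Fin (k + 2)} (h : i ≠ j) (t : F) :
    D.cjm σ (D.ψ (tA h t)) =
      D.ψ (tA (fun e => h (σ.injective e) : σ i ≠ σ j) (msgn F σ i * t * msgn F σ j)) := by
  show D.ψ _ * D.ψ _ * (D.ψ _)⁻¹ = _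
  rw [← map_mul, mono_tA, map_mul, mul_inv_cancel_right]

theorem cjm_diag (σ : Equiv.Perm (Fin (k + 2))) {i j : Fin (k + 2)} (h : i ≠ j) (c : F) (hc : c ≠ 0) :
    D.cjm σ (D.ψ (SpecialLinearGroup.diag2n h c hc)) =
      D.ψ (SpecialLinearGroup.diag2n (fun e => h (σ.injective e) : σ i ≠ σ j) c hc) := by
  show D.ψ _ * D.ψ _ * (D.ψ _)⁻¹ = _
  rw [← map_mul, mono_diag, map_mul, mul_inv_cancel_right]

include hb hg hω in
theorem cjm_ph [Finite F] (σ : Equiv.Perm (Fin (k + 2))) (l : Fin (k + 2)) (M : SpecialLinearGroup (Fin 2) F) :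
    D.cjm σ (D.ph l M) = D.ph (σ l) M := D.mono_ph hg hb hω σ l M

include hb hg hω in
theorem fix_gen [Finite F] (i a c : Fin (k + 2)) (h : a ≠ c) (ha : a ≠ i) (hc : c ≠ i)
    (M : SpecialLinearGroup (Fin 2) F) (t : F) : Commute (D.ph i M) (D.ψ (tA h t)) := by
  obtain ⟨σ, rfl⟩ : ∃ σ : Equiv.Perm (Fin (k + 2)), σ 0 = i := ⟨Equiv.swap 0 i, Equiv.swap_apply_left _ _⟩
  obtain ⟨a, rfl⟩ := σ.surjective a
  obtain ⟨c, rfl⟩ := σ.surjective c
  have ha0 : a ≠ 0 := fun e => ha (e ▸ rfl)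
  have hc0 : c ≠ 0 := fun e => hc (e ▸ rfl)
  obtain ⟨a, rfl⟩ := Fin.exists_succ_eq.2 ha0
  obtain ⟨c, rfl⟩ := Fin.exists_succ_eq.2 hc0
  have hac : a ≠ c := fun e => h (e ▸ rfl)
  have h1 := (D.blk_all hg hb M (tA hac (msgn F σ a.succ * t * msgn F σ c.succ))).map (D.cjm σ)
  rw [← D.ph_zero, D.cjm_ph hg hb hω, bs_tA, D.cjm_tA] at h1
  have e : msgn F σ a.succ * (msgn F σ a.succ * t * msgn F σ c.succ) * msgn F σ c.succ = t := by
    linear_combination t * msgn F σ c.succ * msgn F σ c.succ * msgn_sq (F := F) σ a.succ + t * msgn_sq (F := F) σ c.succ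
  rwa [e] at h1

include hb hg hω in
theorem long_gen [Finite F] (i j : Fin (k + 2)) (h : i ≠ j) (M N : SpecialLinearGroup (Fin 2) F) :
    Commute (D.ph i M) (D.ph j N) := by
  obtain ⟨σ, rfl, rfl⟩ := exists_perm_pair h
  have h1 := (D.lng_all hg M N).map (D.cjm σ)
  rwa [← D.ph_zero, D.cjm_ph hg hb hω, D.cjm_ph hg hb hω] at h1

include hb hg hω in
theorem tor_gen [Finite F] (i j : Fin (k + 2)) (h : i ≠ j) (c : F) (hc : c ≠ 0) :
    D.ψ (SpecialLinearGroup.diag2n h c hc) = D.ph i (hd c hc) * D.ph j (hd c⁻¹ (inv_ne_zero hc)) := by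
  obtain ⟨σ, rfl, rfl⟩ := exists_perm_pair h
  have h1 := congrArg (D.cjm σ) (D.tor_all hg hω hc)
  rwa [map_mul, ← D.ph_zero, D.cjm_ph hg hb hω, D.cjm_ph hg hb hω, D.cjm_diag] at h1

include hg hω in
theorem nrm_all [Finite F] {c : F} (hc : c ≠ 0) (t : F) :
    D.φ (hd c hc) * D.ψ (tA (zero_ne_one (α := Fin (k + 2))) t) * (D.φ (hd c hc))⁻¹ =
      D.ψ (tA zero_ne_one (c * t)) := by
  have h1 : ∀ t, D.φ (hd (ω : F) ω.ne_zero) * D.ψ (tA (zero_ne_one (α := Fin (k + 2))) t) *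
      (D.φ (hd (ω : F) ω.ne_zero))⁻¹ = D.ψ (tA zero_ne_one ((ω : F) * t)) := by
    refine forall_of_sq (fun s t hs ht => ?_) fun a => ?_
    · rw [mul_add, ← Pre.tA_add, ← Pre.tA_add, map_mul, map_mul, ← hs, ← ht]; group
    · rcases eq_or_ne a 0 with rfl | ha
      · rw [mul_zero, mul_zero, tA_zero, map_one, mul_one, mul_inv_cancel]
      · obtain ⟨T, hT⟩ : ∃ T, T = D.ψ (SpecialLinearGroup.diag2n (zero_ne_one (α := Fin (k + 2))) a ha) := ⟨_, rfl⟩
        have hc1 : Commute T (D.φ (hd (ω : F) ω.ne_zero)) := by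
          have e := D.torD hg hω ha (hd (ω : F) ω.ne_zero)
          rw [← hT, (hd_comm ha ω.ne_zero).eq, mul_inv_cancel_right, mul_inv_eq_iff_eq_mul] at e
          exact e
        have ht : ∀ u, T * D.ψ (tA zero_ne_one u) * T⁻¹ = D.ψ (tA zero_ne_one (a * u * a)) := fun u => by
          rw [hT, ← map_mul, diag_tA01, map_mul, mul_inv_cancel_right]
        have e := congrArg (fun x => T * x * T⁻¹) D.nrm
        rw [ht, show T * (D.φ (hd (ω : F) ω.ne_zero) * D.ψ (tA zero_ne_one 1) * (D.φ (hd (ω : F) ω.ne_zero))⁻¹) * T⁻¹ =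
          (T * D.φ (hd (ω : F) ω.ne_zero)) * D.ψ (tA zero_ne_one 1) * (T * D.φ (hd (ω : F) ω.ne_zero))⁻¹ by group,
          hc1.eq, show D.φ (hd (ω : F) ω.ne_zero) * T * D.ψ (tA zero_ne_one 1) * (D.φ (hd (ω : F) ω.ne_zero) * T)⁻¹ =
          D.φ (hd (ω : F) ω.ne_zero) * (T * D.ψ (tA zero_ne_one 1) * T⁻¹) * (D.φ (hd (ω : F) ω.ne_zero))⁻¹ by group,
          ht, mul_one] at e
        rw [e]; congr 2; ring
  obtain ⟨n, rfl⟩ := unit_pow hω hc
  induction n generalizing t with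
  | zero =>
    rw [hd_eq_one hc (pow_zero _), map_one, one_mul, inv_one, mul_one, pow_zero, one_mul]
  | succ n ih =>
    have hn : (ω : F) ^ n ≠ 0 := pow_ne_zero n ω.ne_zero
    have e2 : hd ((ω : F) ^ (n + 1)) hc = hd ((ω : F) ^ n) hn * hd (ω : F) ω.ne_zero := by rw [hd_mul]; congr 1; exact pow_succ _ _
    rw [e2, map_mul, pow_succ, mul_assoc ((ω : F) ^ n), ← ih _ hn, ← h1]
    group

include hg hω in
theorem nrm'_all [Finite F] {c : F} (hc : c ≠ 0) (t : F) :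
    D.φ (hd c hc) * D.ψ (tA (one_ne_zero (α := Fin (k + 2))) t) * (D.φ (hd c hc))⁻¹ =
      D.ψ (tA one_ne_zero (c⁻¹ * t)) := by
  have h1 : ∀ t, D.φ (hd (ω : F) ω.ne_zero) * D.ψ (tA (one_ne_zero (α := Fin (k + 2))) t) *
      (D.φ (hd (ω : F) ω.ne_zero))⁻¹ = D.ψ (tA one_ne_zero ((ω : F)⁻¹ * t)) := by
    refine forall_of_sq (fun s t hs ht => ?_) fun a => ?_
    · rw [mul_add, ← Pre.tA_add, ← Pre.tA_add, map_mul, map_mul, ← hs, ← ht]; group
    · rcases eq_or_ne a 0 with rfl | ha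
      · rw [mul_zero, mul_zero, tA_zero, map_one, mul_one, mul_inv_cancel]
      · obtain ⟨T, hT⟩ : ∃ T, T = D.ψ (SpecialLinearGroup.diag2n (zero_ne_one (α := Fin (k + 2))) a⁻¹
            (inv_ne_zero ha)) := ⟨_, rfl⟩
        have hc1 : Commute T (D.φ (hd (ω : F) ω.ne_zero)) := by
          have e := D.torD hg hω (inv_ne_zero ha) (hd (ω : F) ω.ne_zero)
          rw [← hT, (hd_comm (inv_ne_zero ha) ω.ne_zero).eq, mul_inv_cancel_right, mul_inv_eq_iff_eq_mul] at e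
          exact e
        have ht : ∀ u, T * D.ψ (tA one_ne_zero u) * T⁻¹ = D.ψ (tA one_ne_zero (a * u * a)) := fun u => by
          rw [hT, ← map_mul, diag_tA10, map_mul, mul_inv_cancel_right, inv_inv]
        have e := congrArg (fun x => T * x * T⁻¹) D.nrm'
        rw [ht, show T * (D.φ (hd (ω : F) ω.ne_zero) * D.ψ (tA one_ne_zero 1) * (D.φ (hd (ω : F) ω.ne_zero))⁻¹) * T⁻¹ =
          (T * D.φ (hd (ω : F) ω.ne_zero)) * D.ψ (tA one_ne_zero 1) * (T * D.φ (hd (ω : F) ω.ne_zero))⁻¹ by group,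
          hc1.eq, show D.φ (hd (ω : F) ω.ne_zero) * T * D.ψ (tA one_ne_zero 1) * (D.φ (hd (ω : F) ω.ne_zero) * T)⁻¹ =
          D.φ (hd (ω : F) ω.ne_zero) * (T * D.ψ (tA one_ne_zero 1) * T⁻¹) * (D.φ (hd (ω : F) ω.ne_zero))⁻¹ by group,
          ht, mul_one] at e
        rw [e]; congr 2; ring
  obtain ⟨n, rfl⟩ := unit_pow hω hc
  induction n generalizing t with
  | zero =>
    rw [hd_eq_one hc (pow_zero _), map_one, one_mul, inv_one, mul_one, pow_zero, inv_one, one_mul]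
  | succ n ih =>
    have hn : (ω : F) ^ n ≠ 0 := pow_ne_zero n ω.ne_zero
    have e2 : hd ((ω : F) ^ (n + 1)) hc = hd ((ω : F) ^ n) hn * hd (ω : F) ω.ne_zero := by rw [hd_mul]; congr 1; exact pow_succ _ _
    rw [e2, map_mul, pow_succ, mul_inv, mul_assoc ((ω : F) ^ n)⁻¹, ← ih _ hn, ← h1]
    group

include hg hω in
theorem fx_all [Finite F] (s t : F) : Commute (D.φ (xp s)) (D.ψ (tA (zero_ne_one (α := Fin (k + 2))) t)) := by
  refine forall_of_sq (P := fun s => ∀ t, Commute (D.φ (xp s)) (D.ψ (tA (zero_ne_one (α := Fin (k + 2))) t)))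
    (fun a b ha hb t => ?_) (fun u t => ?_) s t
  · rw [← xp_add, map_mul]; exact (ha t).mul_left (hb t)
  rcases eq_or_ne u 0 with rfl | hu
  · rw [mul_zero, xp_zero, map_one]; exact Commute.one_left _
  rcases eq_or_ne t 0 with rfl | ht
  · rw [tA_zero, map_one]; exact Commute.one_right _
  have hb : t / u ≠ 0 := div_ne_zero ht hu
  have ha : u / (t / u) ≠ 0 := div_ne_zero hu hb
  have h1 := D.fx.map (MulAut.conj (D.φ (hd _ ha))).toMonoidHom
  simp only [MulEquiv.coe_toMonoidHom, MulAut.conj_apply] at h1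
  rw [D.nrm_all hg hω ha, ← map_mul, hd_xp, map_mul, mul_inv_cancel_right, mul_one] at h1
  have h2 := h1.map (MulAut.conj (D.ψ (SpecialLinearGroup.diag2n (zero_ne_one (α := Fin (k + 2))) _ hb))).toMonoidHom
  simp only [MulEquiv.coe_toMonoidHom, MulAut.conj_apply] at h2
  rw [D.torD hg hω hb, hd_xp, mul_inv_cancel_right, ← map_mul, diag_tA01, map_mul, mul_inv_cancel_right] at h2
  have e1 : t / u * (u / (t / u) * (u / (t / u))) * (t / u) = u * u := by field_simp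
  have e2 : t / u * (u / (t / u)) * (t / u) = t := by field_simp
  rwa [e1, e2] at h2

include hg hω in
theorem fx'_all [Finite F] (s t : F) : Commute (D.φ (xm s)) (D.ψ (tA (one_ne_zero (α := Fin (k + 2))) t)) := by
  refine forall_of_sq (P := fun s => ∀ t, Commute (D.φ (xm s)) (D.ψ (tA (one_ne_zero (α := Fin (k + 2))) t)))
    (fun a b ha hb t => ?_) (fun u t => ?_) s t
  · rw [← xm_add, map_mul]; exact (ha t).mul_left (hb t)
  rcases eq_or_ne u 0 with rfl | hu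
  · rw [mul_zero, xm_zero, map_one]; exact Commute.one_left _
  rcases eq_or_ne t 0 with rfl | ht
  · rw [tA_zero, map_one]; exact Commute.one_right _
  have hb : u / t ≠ 0 := div_ne_zero hu ht
  have ha : (u / t * u)⁻¹ * (u / t) * (u / t) * 1 ≠ 0 := by
    refine mul_ne_zero (mul_ne_zero (mul_ne_zero (inv_ne_zero (mul_ne_zero hb hu)) hb) hb) one_ne_zero
  have ha' : (u / (t / u))⁻¹ ≠ 0 := inv_ne_zero (div_ne_zero hu (div_ne_zero ht hu))
  have h1 := D.fx'.map (MulAut.conj (D.φ (hd _ ha'))).toMonoidHom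
  simp only [MulEquiv.coe_toMonoidHom, MulAut.conj_apply] at h1
  rw [D.nrm'_all hg hω ha', ← map_mul, hd_xm, map_mul, mul_inv_cancel_right, mul_one] at h1
  have h2 := h1.map (MulAut.conj (D.ψ (SpecialLinearGroup.diag2n (zero_ne_one (α := Fin (k + 2))) _ hb))).toMonoidHom
  simp only [MulEquiv.coe_toMonoidHom, MulAut.conj_apply] at h2
  rw [D.torD hg hω hb, hd_xm, mul_inv_cancel_right, ← map_mul, diag_tA10, map_mul, mul_inv_cancel_right] at h2
  simp only [inv_inv] at h2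
  have e1 : (u / t)⁻¹ * (u / (t / u) * (u / (t / u))) * (u / t)⁻¹ = u * u := by field_simp
  have e2 : (u / t)⁻¹ * (u / (t / u)) * (u / t)⁻¹ = t := by field_simp
  rwa [e1, e2] at h2

include hg hω in
theorem sym_all [Finite F] (t : F) :
    D.ph 1 (wS F) * D.ψ (tA (zero_ne_one (α := Fin (k + 2))) t) * (D.ph 1 (wS F))⁻¹ =
      D.φ (wS F) * D.ψ (tA one_ne_zero t) * (D.φ (wS F))⁻¹ := by
  rcases eq_or_ne t 0 with rfl | ht
  · simp only [tA_zero, map_one, mul_one, mul_inv_cancel]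
  obtain ⟨H, hH⟩ : ∃ H, H = D.φ (hd t ht) := ⟨_, rfl⟩
  have e := congrArg (fun x => H * x * H⁻¹) (show D.ph 1 (wS F) * D.ψ (tA (zero_ne_one (α := Fin (k + 2))) 1) *
    (D.ph 1 (wS F))⁻¹ = _ from D.sym)
  have hc : Commute H (D.ph 1 (wS F)) := hH ▸ D.lng_all hg _ _
  have hw : H * D.φ (wS F) = D.φ (wS F) * D.φ (hd t⁻¹ (inv_ne_zero ht)) := by rw [hH, ← map_mul, hd_wS, map_mul]
  have hn : H * D.ψ (tA (zero_ne_one (α := Fin (k + 2))) 1) * H⁻¹ = D.ψ (tA zero_ne_one t) := by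
    rw [hH, D.nrm_all hg hω, mul_one]
  have hn' := D.nrm'_all hg hω (inv_ne_zero ht) (1 : F)
  rw [inv_inv, mul_one] at hn'
  calc _ = H * (D.ph 1 (wS F) * D.ψ (tA zero_ne_one 1) * (D.ph 1 (wS F))⁻¹) * H⁻¹ := by
        rw [show H * (D.ph 1 (wS F) * D.ψ (tA zero_ne_one 1) * (D.ph 1 (wS F))⁻¹) * H⁻¹ =
          (H * D.ph 1 (wS F)) * D.ψ (tA zero_ne_one 1) * (H * D.ph 1 (wS F))⁻¹ by group, hc.eq, ← hn]
        group
    _ = _ := by
        rw [e, show H * (D.φ (wS F) * D.ψ (tA one_ne_zero 1) * (D.φ (wS F))⁻¹) * H⁻¹ =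
          (H * D.φ (wS F)) * D.ψ (tA one_ne_zero 1) * (H * D.φ (wS F))⁻¹ by group, hw, ← hn']
        group

include hb hg hω in
theorem nrm_gen [Finite F] (i j : Fin (k + 2)) (h : i ≠ j) (c : F) (hc : c ≠ 0) (t : F) :
    D.ph i (hd c hc) * D.ψ (tA h t) * (D.ph i (hd c hc))⁻¹ = D.ψ (tA h (c * t)) := by
  obtain ⟨σ, rfl, rfl⟩ := exists_perm_pair h
  have h1 := congrArg (D.cjm σ) (D.nrm_all hg hω hc (t * msgn F σ 1))
  rw [map_mul, map_mul, map_inv, ← D.ph_zero, D.cjm_ph hg hb hω, D.cjm_tA, D.cjm_tA, msgn_zero, one_mul, one_mul,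
    mul_assoc t, mul_assoc c, mul_assoc t, msgn_sq, mul_one] at h1
  exact h1

include hb hg hω in
theorem nrm'_gen [Finite F] (i j : Fin (k + 2)) (h : j ≠ i) (c : F) (hc : c ≠ 0) (t : F) :
    D.ph i (hd c hc) * D.ψ (tA h t) * (D.ph i (hd c hc))⁻¹ = D.ψ (tA h (c⁻¹ * t)) := by
  obtain ⟨σ, rfl, rfl⟩ := exists_perm_pair h.symm
  have h1 := congrArg (D.cjm σ) (D.nrm'_all hg hω hc (msgn F σ 1 * t))
  have e1 : msgn F σ 1 * (msgn F σ 1 * t) * msgn F σ 0 = t := by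
    rw [msgn_zero, mul_one, ← mul_assoc, msgn_sq, one_mul]
  have e2 : msgn F σ 1 * (c⁻¹ * (msgn F σ 1 * t)) * msgn F σ 0 = c⁻¹ * t := by
    rw [msgn_zero, mul_one, mul_left_comm, ← mul_assoc (msgn F σ 1), msgn_sq, one_mul]
  rw [map_mul, map_mul, map_inv, ← D.ph_zero, D.cjm_ph hg hb hω, D.cjm_tA, D.cjm_tA, e1, e2] at h1
  exact h1

include hb hg hω in
theorem fx_gen [Finite F] (i j : Fin (k + 2)) (h : i ≠ j) (s t : F) : Commute (D.ph i (xp s)) (D.ψ (tA h t)) := by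
  obtain ⟨σ, rfl, rfl⟩ := exists_perm_pair h
  have h1 := (D.fx_all hg hω s (t * msgn F σ 1)).map (D.cjm σ)
  rwa [← D.ph_zero, D.cjm_ph hg hb hω, D.cjm_tA, msgn_zero, one_mul, mul_assoc, msgn_sq, mul_one] at h1

include hb hg hω in
theorem fx'_gen [Finite F] (i j : Fin (k + 2)) (h : j ≠ i) (s t : F) : Commute (D.ph i (xm s)) (D.ψ (tA h t)) := by
  obtain ⟨σ, rfl, rfl⟩ := exists_perm_pair h.symm
  have h1 := (D.fx'_all hg hω s (msgn F σ 1 * t)).map (D.cjm σ)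
  rwa [← D.ph_zero, D.cjm_ph hg hb hω, D.cjm_tA, msgn_zero, mul_one, ← mul_assoc, msgn_sq, one_mul] at h1

include hb hg hω in
theorem sym_gen [Finite F] (i j : Fin (k + 2)) (h : i ≠ j) (t : F) :
    D.ph j (wS F) * D.ψ (tA h t) * (D.ph j (wS F))⁻¹ = D.ph i (wS F) * D.ψ (tA h.symm t) * (D.ph i (wS F))⁻¹ := by
  obtain ⟨σ, rfl, rfl⟩ := exists_perm_pair h
  have h1 := congrArg (D.cjm σ) (D.sym_all hg hω (t * msgn F σ 1))
  rw [← D.ph_zero, map_mul, map_mul, map_inv, map_mul, map_mul, map_inv, D.cjm_ph hg hb hω, D.cjm_ph hg hb hω,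
    D.cjm_tA, D.cjm_tA, msgn_zero, one_mul, mul_one, mul_assoc t, msgn_sq, mul_one, mul_comm t (msgn F σ 1),
    ← mul_assoc, msgn_sq, one_mul] at h1
  exact h1

include hb hg hω in
theorem form_all [Finite F] (s t : F) :
    D.ψ (tA (one_ne_zero (α := Fin (k + 2))) s) * D.φ (xp t) * (D.ψ (tA one_ne_zero s))⁻¹ =
      D.φ (xp t) * (D.ph 1 (wS F) * D.ψ (tA zero_ne_one (-(s * t))) * (D.ph 1 (wS F))⁻¹) *
        D.ph 1 (xp (s * s * t)) := by
  obtain ⟨W, hW⟩ : ∃ W, W = D.ph 1 (wS F) := ⟨_, rfl⟩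
  rw [← hW]
  rcases eq_or_ne s 0 with rfl | hs
  · simp [tA_zero, xp_zero]
  refine forall_of_sq (P := fun t => D.ψ (tA (one_ne_zero (α := Fin (k + 2))) s) * D.φ (xp t) *
      (D.ψ (tA one_ne_zero s))⁻¹ = D.φ (xp t) * (W * D.ψ (tA zero_ne_one (-(s * t))) * W⁻¹) *
        D.ph 1 (xp (s * s * t))) (fun t u ht hu => ?_) (fun a => ?_) t
  · rw [← xp_add, map_mul, show D.ψ (tA one_ne_zero s) * (D.φ (xp t) * D.φ (xp u)) * (D.ψ (tA one_ne_zero s))⁻¹ =
      (D.ψ (tA one_ne_zero s) * D.φ (xp t) * (D.ψ (tA one_ne_zero s))⁻¹) *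
        (D.ψ (tA one_ne_zero s) * D.φ (xp u) * (D.ψ (tA one_ne_zero s))⁻¹) by group, ht, hu, mul_add, mul_add,
      neg_add, ← Pre.tA_add, map_mul, ← xp_add, map_mul]
    have c1 : Commute (D.ph 1 (xp (s * s * t))) (D.φ (xp u)) := (D.lng_all hg _ _).symm
    have c2 : Commute (W * D.ψ (tA zero_ne_one (-(s * t))) * W⁻¹) (D.φ (xp u)) := by
      have h1 : Commute W (D.φ (xp u)) := hW ▸ (D.lng_all hg _ _).symm
      exact (h1.mul_left (D.fx_all hg hω u _).symm).mul_left h1.inv_left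
    have c3 : Commute (D.ph 1 (xp (s * s * t))) (W * D.ψ (tA zero_ne_one (-(s * u))) * W⁻¹) := by
      rw [hW, D.sym_all hg hω]
      have h1 : Commute (D.ph 1 (xp (s * s * t))) (D.φ (wS F)) := (D.lng_all hg _ _).symm
      exact (h1.mul_right (D.fx_gen hg hb hω 1 0 one_ne_zero _ _)).mul_right h1.inv_right
    generalize D.φ (xp t) = P
    generalize D.φ (xp u) = P' at c1 c2 ⊢
    generalize D.ph 1 (xp (s * s * t)) = Q at c1 c3 ⊢
    generalize D.ph 1 (xp (s * s * u)) = Q'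
    generalize hU : W * D.ψ (tA zero_ne_one (-(s * t))) * W⁻¹ = U at c2 ⊢
    generalize hU' : W * D.ψ (tA zero_ne_one (-(s * u))) * W⁻¹ = U' at c3 ⊢
    calc P * U * Q * (P' * U' * Q') = P * U * (Q * P') * (U' * Q') := by simp only [mul_assoc]
      _ = P * (U * P') * (Q * U') * Q' := by rw [c1.eq]; simp only [mul_assoc]
      _ = P * (P' * U) * (U' * Q) * Q' := by rw [c2.eq, c3.eq]
      _ = _ := by
        rw [← hU, ← hU']
        group
  · rcases eq_or_ne a 0 with rfl | ha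
    · simp [tA_zero, xp_zero]
    have hb' : s * a ≠ 0 := mul_ne_zero hs ha
    obtain ⟨H, hH⟩ : ∃ H, H = D.φ (hd a ha) := ⟨_, rfl⟩
    obtain ⟨K, hK⟩ : ∃ K, K = D.ph 1 (hd (s * a) hb') := ⟨_, rfl⟩
    obtain ⟨C, hC⟩ : ∃ C : G →* G, C = (MulAut.conj (H * K)).toMonoidHom := ⟨_, rfl⟩
    have hCa : ∀ x, C x = H * (K * x * K⁻¹) * H⁻¹ := fun x => by
      rw [hC]; show H * K * x * (H * K)⁻¹ = _; group
    have h10 : C (D.ψ (tA one_ne_zero 1)) = D.ψ (tA one_ne_zero s) := by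
      rw [hCa, hK, D.nrm_gen hg hb hω 1 0 one_ne_zero, hH, D.nrm'_all hg hω]
      congr 2; field_simp
    have hP : C (D.φ (xp 1)) = D.φ (xp (a * a)) := by
      rw [hCa, hK, ← (D.lng_all hg (xp 1) _).eq, mul_inv_cancel_right, hH, ← map_mul, hd_xp, map_mul,
        mul_inv_cancel_right, mul_one]
    have hQ : C (D.ph 1 (xp 1)) = D.ph 1 (xp (s * s * (a * a))) := by
      rw [hCa, hK, ← map_mul, hd_xp, map_mul, mul_inv_cancel_right, hH, (D.lng_all hg _ _).eq, mul_inv_cancel_right]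
      congr 2; ring
    have hU : C (W * D.ψ (tA zero_ne_one (-1)) * W⁻¹) = W * D.ψ (tA zero_ne_one (-(s * (a * a)))) * W⁻¹ := by
      have hHW : Commute H W := hH ▸ hW ▸ D.lng_all hg _ _
      have hKW : K * W = W * D.ph 1 (hd (s * a)⁻¹ (inv_ne_zero hb')) := by
        rw [hK, hW, ← map_mul, hd_wS, map_mul]
      rw [hCa, show K * (W * D.ψ (tA zero_ne_one (-1)) * W⁻¹) * K⁻¹ =
        (K * W) * D.ψ (tA zero_ne_one (-1)) * (K * W)⁻¹ by group, hKW,
        show W * D.ph 1 (hd (s * a)⁻¹ (inv_ne_zero hb')) * D.ψ (tA zero_ne_one (-1)) *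
          (W * D.ph 1 (hd (s * a)⁻¹ (inv_ne_zero hb')))⁻¹ = W * (D.ph 1 (hd (s * a)⁻¹ (inv_ne_zero hb')) *
          D.ψ (tA zero_ne_one (-1)) * (D.ph 1 (hd (s * a)⁻¹ (inv_ne_zero hb')))⁻¹) * W⁻¹ by group,
        D.nrm'_gen hg hb hω 1 0 zero_ne_one, show ∀ x : G, H * (W * x * W⁻¹) * H⁻¹ = (H * W) * x * (H * W)⁻¹ by
          intro x; group, hHW.eq, show ∀ x : G, W * H * x * (W * H)⁻¹ = W * (H * x * H⁻¹) * W⁻¹ by intro x; group,
        hH, D.nrm_all hg hω]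
      congr 3; rw [inv_inv]; ring_nf
    have e := congrArg C D.form
    rw [map_mul, map_mul, map_inv, map_mul, map_mul, h10, hP] at e
    rw [e]
    congr 1
    · congr 1
      rw [← hU, hW]; rfl

include hb hg hω in
theorem sym_rev [Finite F] (t : F) :
    (D.ph 1 (wS F))⁻¹ * D.ψ (tA (one_ne_zero (α := Fin (k + 2))) t) * D.ph 1 (wS F) =
      (D.φ (wS F))⁻¹ * D.ψ (tA zero_ne_one t) * D.φ (wS F) := by
  have e := D.sym_all hg hω t
  have hc : Commute (D.φ (wS F)) (D.ph 1 (wS F)) := D.lng_all hg _ _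
  generalize D.φ (wS F) = A at e hc
  generalize D.ph 1 (wS F) = B at e hc
  calc B⁻¹ * D.ψ (tA one_ne_zero t) * B
      = B⁻¹ * A⁻¹ * (A * D.ψ (tA one_ne_zero t) * A⁻¹) * (A * B) := by group
    _ = (A * B)⁻¹ * (B * D.ψ (tA zero_ne_one t) * B⁻¹) * (A * B) := by rw [e, _root_.mul_inv_rev]
    _ = A⁻¹ * D.ψ (tA zero_ne_one t) * A := by rw [hc.eq]; group

include hb hg hω in
theorem form'_all [Finite F] (s t : F) :
    D.ψ (tA (zero_ne_one (α := Fin (k + 2))) (-s)) * D.φ (xm t) * (D.ψ (tA zero_ne_one (-s)))⁻¹ =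
      D.φ (xm t) * ((D.ph 1 (wS F))⁻¹ * D.ψ (tA one_ne_zero (s * t)) * D.ph 1 (wS F)) *
        D.ph 1 (xm (s * s * t)) := by
  obtain ⟨W, hW⟩ : ∃ W, W = D.ph 1 (wS F) := ⟨_, rfl⟩
  rw [← hW]
  rcases eq_or_ne s 0 with rfl | hs
  · simp [tA_zero, xm_zero]
  refine forall_of_sq (P := fun t => D.ψ (tA (zero_ne_one (α := Fin (k + 2))) (-s)) * D.φ (xm t) *
      (D.ψ (tA zero_ne_one (-s)))⁻¹ = D.φ (xm t) * (W⁻¹ * D.ψ (tA one_ne_zero (s * t)) * W) *
        D.ph 1 (xm (s * s * t))) (fun t u ht hu => ?_) (fun c => ?_) t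
  · rw [← xm_add, map_mul, show D.ψ (tA zero_ne_one (-s)) * (D.φ (xm t) * D.φ (xm u)) *
      (D.ψ (tA zero_ne_one (-s)))⁻¹ = (D.ψ (tA zero_ne_one (-s)) * D.φ (xm t) * (D.ψ (tA zero_ne_one (-s)))⁻¹) *
        (D.ψ (tA zero_ne_one (-s)) * D.φ (xm u) * (D.ψ (tA zero_ne_one (-s)))⁻¹) by group, ht, hu, mul_add, mul_add,
      ← Pre.tA_add, map_mul, ← xm_add, map_mul]
    have c1 : Commute (D.ph 1 (xm (s * s * t))) (D.φ (xm u)) := (D.lng_all hg _ _).symm
    have c2 : Commute (W⁻¹ * D.ψ (tA one_ne_zero (s * t)) * W) (D.φ (xm u)) := by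
      have h1 : Commute W (D.φ (xm u)) := hW ▸ (D.lng_all hg _ _).symm
      exact (h1.inv_left.mul_left (D.fx'_all hg hω u _).symm).mul_left h1
    have c3 : Commute (D.ph 1 (xm (s * s * t))) (W⁻¹ * D.ψ (tA one_ne_zero (s * u)) * W) := by
      rw [hW, D.sym_rev hg hb hω]
      have h1 : Commute (D.ph 1 (xm (s * s * t))) (D.φ (wS F)) := (D.lng_all hg _ _).symm
      exact (h1.inv_right.mul_right (D.fx'_gen hg hb hω 1 0 zero_ne_one _ _)).mul_right h1
    generalize D.φ (xm t) = P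
    generalize D.φ (xm u) = P' at c1 c2 ⊢
    generalize D.ph 1 (xm (s * s * t)) = Q at c1 c3 ⊢
    generalize D.ph 1 (xm (s * s * u)) = Q'
    generalize hU : W⁻¹ * D.ψ (tA one_ne_zero (s * t)) * W = U at c2 ⊢
    generalize hU' : W⁻¹ * D.ψ (tA one_ne_zero (s * u)) * W = U' at c3 ⊢
    calc P * U * Q * (P' * U' * Q') = P * U * (Q * P') * (U' * Q') := by simp only [mul_assoc]
      _ = P * (U * P') * (Q * U') * Q' := by rw [c1.eq]; simp only [mul_assoc]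
      _ = P * (P' * U) * (U' * Q) * Q' := by rw [c2.eq, c3.eq]
      _ = _ := by
        rw [← hU, ← hU']
        group
  · rcases eq_or_ne c 0 with rfl | hc
    · simp [tA_zero, xm_zero]
    have ha : c⁻¹ ≠ 0 := inv_ne_zero hc
    have hb' : c⁻¹ / s ≠ 0 := div_ne_zero ha hs
    obtain ⟨H, hH⟩ : ∃ H, H = D.φ (hd c⁻¹ ha) := ⟨_, rfl⟩
    obtain ⟨K, hK⟩ : ∃ K, K = D.ph 1 (hd (c⁻¹ / s) hb') := ⟨_, rfl⟩
    obtain ⟨C, hC⟩ : ∃ C : G →* G, C = (MulAut.conj (H * K)).toMonoidHom := ⟨_, rfl⟩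
    have hCa : ∀ x, C x = H * (K * x * K⁻¹) * H⁻¹ := fun x => by
      rw [hC]; show H * K * x * (H * K)⁻¹ = _; group
    have h01 : C (D.ψ (tA zero_ne_one (-1))) = D.ψ (tA zero_ne_one (-s)) := by
      rw [hCa, hK, D.nrm'_gen hg hb hω 1 0 zero_ne_one, hH, D.nrm_all hg hω]
      congr 2; field_simp
    have hP : C (D.φ (xm 1)) = D.φ (xm (c * c)) := by
      rw [hCa, hK, ← (D.lng_all hg (xm 1) _).eq, mul_inv_cancel_right, hH, ← map_mul, hd_xm, map_mul,
        mul_inv_cancel_right, mul_one, inv_inv]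
    have hQ : C (D.ph 1 (xm 1)) = D.ph 1 (xm (s * s * (c * c))) := by
      rw [hCa, hK, ← map_mul, hd_xm, map_mul, mul_inv_cancel_right, hH, (D.lng_all hg _ _).eq, mul_inv_cancel_right]
      congr 2; field_simp
    have hU : C (W⁻¹ * D.ψ (tA one_ne_zero 1) * W) = W⁻¹ * D.ψ (tA one_ne_zero (s * (c * c))) * W := by
      have hHW : Commute H W⁻¹ := (hH ▸ hW ▸ D.lng_all hg _ _ : Commute H W).inv_right
      have hKW : K * W⁻¹ = W⁻¹ * D.ph 1 (hd (c⁻¹ / s)⁻¹ (inv_ne_zero hb')) := by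
        rw [eq_inv_mul_iff_mul_eq, ← mul_assoc, mul_inv_eq_iff_eq_mul, hK, hW, ← map_mul, ← map_mul]
        congr 1
        have := hd_wS (inv_ne_zero hb')
        simp only [inv_inv] at this
        exact this.symm
      rw [hCa, show K * (W⁻¹ * D.ψ (tA one_ne_zero 1) * W) * K⁻¹ =
        (K * W⁻¹) * D.ψ (tA one_ne_zero 1) * (K * W⁻¹)⁻¹ by group, hKW,
        show W⁻¹ * D.ph 1 (hd (c⁻¹ / s)⁻¹ (inv_ne_zero hb')) * D.ψ (tA one_ne_zero 1) *
          (W⁻¹ * D.ph 1 (hd (c⁻¹ / s)⁻¹ (inv_ne_zero hb')))⁻¹ = W⁻¹ * (D.ph 1 (hd (c⁻¹ / s)⁻¹ (inv_ne_zero hb')) *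
          D.ψ (tA one_ne_zero 1) * (D.ph 1 (hd (c⁻¹ / s)⁻¹ (inv_ne_zero hb')))⁻¹) * W by group,
        D.nrm_gen hg hb hω 1 0 one_ne_zero, show ∀ x : G, H * (W⁻¹ * x * W) * H⁻¹ = (H * W⁻¹) * x * (H * W⁻¹)⁻¹ by
          intro x; group, hHW.eq, show ∀ x : G, W⁻¹ * H * x * (W⁻¹ * H)⁻¹ = W⁻¹ * (H * x * H⁻¹) * W by intro x; group,
        hH, D.nrm'_all hg hω]
      congr 3; field_simp
    have e := congrArg C D.form'
    rw [map_mul, map_mul, map_inv, map_mul, map_mul, h01, hP] at e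
    rw [e]
    congr 1
    · congr 1
      rw [← hU, hW]; rfl

/-- all the relations -/
def toPre [Finite F] : Pre F (k + 2) G where
  ψ := D.ψ
  φ := D.ph
  fix := D.fix_gen hg hb hω
  long := D.long_gen hg hb hω
  tor := D.tor_gen hg hb hω
  nrm := D.nrm_gen hg hb hω
  nrm' := D.nrm'_gen hg hb hω
  fx := D.fx_gen hg hb hω
  fx' := D.fx'_gen hg hb hω
  sym := D.sym_gen hg hb hω
  form i j h s t := by
    obtain ⟨σ, rfl, rfl⟩ := exists_perm_pair h
    have h1 := congrArg (D.cjm σ) (D.form_all hg hb hω (msgn F σ 1 * s) t)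
    have e1 : msgn F σ 1 * (msgn F σ 1 * s) * msgn F σ 0 = s := by
      rw [msgn_zero, mul_one, ← mul_assoc, msgn_sq, one_mul]
    have e2 : msgn F σ 0 * -(msgn F σ 1 * s * t) * msgn F σ 1 = -(s * t) := by
      rw [msgn_zero]; linear_combination (-(s * t)) * msgn_sq (F := F) σ 1
    have e3 : msgn F σ 1 * s * (msgn F σ 1 * s) * t = s * s * t := by
      linear_combination (s * s * t) * msgn_sq (F := F) σ 1
    simp only [map_mul, map_inv, ← D.ph_zero, D.cjm_ph hg hb hω, D.cjm_tA, e1, e2, e3] at h1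
    exact h1
  form' i j h s t := by
    obtain ⟨σ, rfl, rfl⟩ := exists_perm_pair h
    have h1 := congrArg (D.cjm σ) (D.form'_all hg hb hω (s * msgn F σ 1) t)
    have e1 : msgn F σ 0 * -(s * msgn F σ 1) * msgn F σ 1 = -s := by
      rw [msgn_zero]; linear_combination (-s) * msgn_sq (F := F) σ 1
    have e2 : msgn F σ 1 * (s * msgn F σ 1 * t) * msgn F σ 0 = s * t := by
      rw [msgn_zero]; linear_combination (s * t) * msgn_sq (F := F) σ 1
    have e3 : s * msgn F σ 1 * (s * msgn F σ 1) * t = s * s * t := by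
      linear_combination (s * s * t) * msgn_sq (F := F) σ 1
    simp only [map_mul, map_inv, ← D.ph_zero, D.cjm_ph hg hb hω, D.cjm_tA, e1, e2, e3] at h1
    exact h1

end Glue

end CfsgLib.Known.SpBounded
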