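import Cfsg.Agent.Lib.Known.SpBounded.UHom
import Cfsg.Agent.Lib.Known.ClassicalSections

/-!
# The images in the symplectic group
-/

set_option autoImplicit false

namespace CfsgLib.Known.SpBounded

open Matrix (SpecialLinearGroup fromBlocks single)
open CfsgLib.Known.ClassicalSections (leviSp)

variable {F : Type*} [Field F] {m : ℕ}

/-- the matrix of a rank one group at one coordinate -/
def s2m (i : Fin m) (M : Matrix (Fin 2) (Fin 2) F) : Matrix (Fin m ⊕ Fin m) (Fin m ⊕ Fin m) F :=
  fromBlocks (1 + single i i (M 0 0 - 1)) (single i i (M 0 1)) (single i i (M 1 0)) (1 + single i i (M 1 1 - 1))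

theorem s2m_mul (i : Fin m) (M N : Matrix (Fin 2) (Fin 2) F) : s2m i (M * N) = s2m i M * s2m i N := by
  simp only [s2m, Matrix.fromBlocks_multiply, Matrix.fromBlocks_inj, Matrix.mul_apply, Fin.sum_univ_two, add_mul,
    mul_add, one_mul, mul_one, Matrix.single_mul_single_same, add_assoc, ← Matrix.single_add]
  refine ⟨?_, ?_, ?_, ?_⟩ <;> ext a b <;>
    simp only [Matrix.add_apply, Matrix.one_apply, Matrix.single, Matrix.of_apply] <;>
    split_ifs <;> ring

theorem s2m_one (i : Fin m) : s2m i (1 : Matrix (Fin 2) (Fin 2) F) = 1 := by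
  simp [s2m, Matrix.fromBlocks_one]

theorem s2m_mem (i : Fin m) {M : Matrix (Fin 2) (Fin 2) F} (hM : M.det = 1) :
    s2m i M ∈ Matrix.symplecticGroup (Fin m) F := by
  rw [Matrix.det_fin_two] at hM
  rw [SymplecticGroup.mem_iff]
  simp only [s2m, Matrix.J, Matrix.fromBlocks_transpose, Matrix.fromBlocks_multiply, Matrix.fromBlocks_inj,
    Matrix.transpose_add, Matrix.transpose_one, Matrix.transpose_single, add_mul, mul_add, one_mul, mul_one,
    Matrix.mul_zero, Matrix.zero_mul, zero_add, add_zero, mul_neg, neg_mul, Matrix.single_mul_single_same,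
    neg_add_rev, neg_neg]
  refine ⟨?_, ?_, ?_, ?_⟩ <;> ext a b <;>
    simp only [Matrix.add_apply, Matrix.neg_apply, Matrix.one_apply, Matrix.zero_apply, Matrix.single,
      Matrix.of_apply] <;>
    split_ifs <;> first | ring1 | linear_combination hM | linear_combination -hM

/-- the rank one group at one coordinate -/
def s2 (i : Fin m) : SpecialLinearGroup (Fin 2) F →* Matrix.symplecticGroup (Fin m) F where
  toFun M := ⟨s2m i M.1, s2m_mem i M.2⟩
  map_one' := Subtype.ext (by simp [s2m_one])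
  map_mul' M N := Subtype.ext (by
    show s2m i (M * N : SpecialLinearGroup (Fin 2) F).1 = s2m i M.1 * s2m i N.1
    rw [Matrix.SpecialLinearGroup.coe_mul, s2m_mul])

theorem coe_s2 (i : Fin m) (M : SpecialLinearGroup (Fin 2) F) :
    (s2 i M : Matrix (Fin m ⊕ Fin m) (Fin m ⊕ Fin m) F) = s2m i M.1 := rfl

theorem coe_leviSp (A : SpecialLinearGroup (Fin m) F) : (leviSp m A : Matrix (Fin m ⊕ Fin m) (Fin m ⊕ Fin m) F) =
    fromBlocks A.1 0 0 (iot (Fin m) F A).1 := rfl

/-- exchanging the halves of the symplectic group -/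
def tau (m : ℕ) (F : Type*) [Field F] : Matrix.symplecticGroup (Fin m) F →* Matrix.symplecticGroup (Fin m) F where
  toFun A := ⟨A.1.submatrix (Equiv.sumComm _ _) (Equiv.sumComm _ _), by
    have h := A.2
    rw [SymplecticGroup.mem_iff] at h ⊢
    have e : (Matrix.J (Fin m) F).submatrix (Equiv.sumComm _ _) (Equiv.sumComm _ _) = -Matrix.J (Fin m) F := by
      ext a b
      rcases a with a | a <;> rcases b with b | b <;> simp [Matrix.J]
    obtain ⟨σ, hσ⟩ : ∃ σ, σ = Equiv.sumComm (Fin m) (Fin m) := ⟨_, rfl⟩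
    rw [← hσ] at e ⊢
    have e2 : Matrix.J (Fin m) F = -((Matrix.J (Fin m) F).submatrix σ σ) := by rw [e, neg_neg]
    conv_lhs => arg 1; arg 2; rw [e2]
    rw [mul_neg, neg_mul, Matrix.transpose_submatrix, Matrix.submatrix_mul_equiv, Matrix.submatrix_mul_equiv, h, e,
      neg_neg]⟩
  map_one' := Subtype.ext (Matrix.submatrix_one_equiv (Equiv.sumComm (Fin m) (Fin m)))
  map_mul' A B := Subtype.ext (by
    show (A.1 * B.1).submatrix _ _ = _ * _
    exact (Matrix.submatrix_mul_equiv A.1 B.1 _ (Equiv.sumComm (Fin m) (Fin m)) _).symm)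

theorem coe_tau (A : Matrix.symplecticGroup (Fin m) F) :
    (tau m F A : Matrix (Fin m ⊕ Fin m) (Fin m ⊕ Fin m) F) = A.1.submatrix (Equiv.sumComm _ _) (Equiv.sumComm _ _) :=
  rfl

theorem tau_fromBlocks (A B C D : Matrix (Fin m) (Fin m) F) :
    (fromBlocks A B C D).submatrix (Equiv.sumComm (Fin m) (Fin m)) (Equiv.sumComm _ _) = fromBlocks D C B A := by
  ext a b
  rcases a with a | a <;> rcases b with b | b <;> simp

namespace Pre

variable {G : Type*} [Group G] (R : Pre F m G)

/-- the lower triangular elements -/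
noncomputable def V (M : Matrix (Fin m) (Fin m) F) : G := R.flip.U M

theorem conj_V (hm : 2 ≤ m) (A : SpecialLinearGroup (Fin m) F) {M : Matrix (Fin m) (Fin m) F} (hM : M.IsSymm) :
    R.ψ A * R.V M * (R.ψ A)⁻¹ = R.V ((iot (Fin m) F A).1 * M * (iot (Fin m) F A).1.transpose) := by
  have h := R.flip.conj_U hm (iot (Fin m) F A) hM
  simp only [Pre.flip, MonoidHom.comp_apply, iot_iot] at h
  exact h

theorem V_add (M N : Matrix (Fin m) (Fin m) F) : R.V (M + N) = R.V M * R.V N := R.flip.U_add M N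
theorem V_zero : R.V 0 = 1 := R.flip.U_zero
theorem V_neg (M : Matrix (Fin m) (Fin m) F) : R.V (-M) = (R.V M)⁻¹ := R.flip.U_neg M
theorem V_Sm (i j : Fin m) (t : F) : R.V (Sm i j t) = R.flip.uu i j t := R.flip.U_Sm i j t

theorem V_diag (i : Fin m) (t : F) : R.V (Sm i i t) = R.φ i (xm t) := by
  rw [V_Sm, uu_self]
  simp [Pre.flip, mu_xp]

theorem U_diag (i : Fin m) (t : F) : R.U (Sm i i t) = R.φ i (xp t) := by rw [U_Sm, uu_self]

/-- compatibility with the symplectic group -/
structure Rep (R : Pre F m G) (θ : G →* Matrix.symplecticGroup (Fin m) F) : Prop where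
  hψ : ∀ A, θ (R.ψ A) = leviSp m A
  hφ : ∀ i M, θ (R.φ i M) = s2 i M

variable {R} {θ : G →* Matrix.symplecticGroup (Fin m) F}

theorem Rep.flip (h : Rep R θ) : Rep R.flip ((tau m F).comp θ) where
  hψ A := by
    refine Subtype.ext ?_
    simp only [Pre.flip, MonoidHom.comp_apply, h.hψ, coe_tau, coe_leviSp, tau_fromBlocks, iot_iot]
  hφ i M := by
    refine Subtype.ext ?_
    simp only [Pre.flip, MonoidHom.comp_apply, h.hφ, coe_tau, coe_s2, s2m, tau_fromBlocks, coe_mu]
    simp

theorem θ_U (h : Rep R θ) {M : Matrix (Fin m) (Fin m) F} (hM : M.IsSymm) :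
    (θ (R.U M) : Matrix (Fin m ⊕ Fin m) (Fin m ⊕ Fin m) F) = fromBlocks 1 M 0 1 := by
  refine symm_induction (P := fun M => (θ (R.U M) : Matrix (Fin m ⊕ Fin m) (Fin m ⊕ Fin m) F) = fromBlocks 1 M 0 1)
    ?_ ?_ ?_ hM
  · rw [R.U_zero, map_one]; exact Matrix.fromBlocks_one.symm
  · intro A B _ _ ha hb
    rw [R.U_add, map_mul, Submonoid.coe_mul, ha, hb, Matrix.fromBlocks_multiply]
    simp [add_comm]
  · intro i j t
    rw [R.U_Sm]
    by_cases hij : i = j
    · subst hij
      rw [R.uu_self, h.hφ, coe_s2, s2m, xp_coe]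
      simp [Sm]
    · rw [R.uu_ne hij, map_mul, map_mul, map_inv, h.hφ, h.hψ, ← map_inv (s2 j), Submonoid.coe_mul,
        Submonoid.coe_mul, coe_s2, coe_s2, coe_leviSp, ← mu_wS, coe_mu, iot_tr hij]
      simp only [SpecialLinearGroup.transvection_coe, wS_coe, s2m, Matrix.fromBlocks_multiply, Matrix.fromBlocks_inj]
      have hji : j ≠ i := Ne.symm hij
      simp [Sm, hij, hji, add_mul, mul_add, Matrix.single_mul_single_same, Matrix.single_mul_single_of_ne,
        ← Matrix.single_add]
      refine ⟨?_, ?_, ?_⟩ <;> ext a b <;>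
        simp only [Matrix.add_apply, Matrix.one_apply, Matrix.single, Matrix.of_apply] <;>
        split_ifs <;> first | ring1 | simp_all

theorem θ_V (h : Rep R θ) {M : Matrix (Fin m) (Fin m) F} (hM : M.IsSymm) :
    (θ (R.V M) : Matrix (Fin m ⊕ Fin m) (Fin m ⊕ Fin m) F) = fromBlocks 1 0 M 1 := by
  have h1 := θ_U h.flip hM
  rw [MonoidHom.comp_apply, coe_tau] at h1
  have h2 := congrArg (fun X => X.submatrix (Equiv.sumComm (Fin m) (Fin m)) (Equiv.sumComm _ _)) h1
  simp only [tau_fromBlocks, Matrix.submatrix_submatrix] at h2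
  rw [← h2]
  ext a b
  rcases a with a | a <;> rcases b with b | b <;> rfl

end Pre

end CfsgLib.Known.SpBounded
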