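import Cfsg.Agent.Lib.Known.SpBounded.Pre

/-!
# The abelian group of symmetric matrices and the action of `SL m` on it
-/

set_option autoImplicit false

namespace CfsgLib.Known.SpBounded

open Matrix (SpecialLinearGroup)

variable {F : Type*} [Field F] {m : ℕ}

/-- a symmetric elementary matrix -/
def Sm (i j : Fin m) (t : F) : Matrix (Fin m) (Fin m) F :=
  if i = j then Matrix.single i i t else Matrix.single i j t + Matrix.single j i t

theorem Sm_comm (i j : Fin m) (t : F) : Sm i j t = Sm j i t := by
  unfold Sm
  by_cases h : i = j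
  · subst h; rfl
  · rw [if_neg h, if_neg (Ne.symm h), add_comm]

theorem Sm_apply (i j : Fin m) (t : F) (a b : Fin m) :
    Sm i j t a b = if (a = i ∧ b = j) ∨ (a = j ∧ b = i) then t else 0 := by
  unfold Sm
  by_cases h : i = j
  · subst h
    simp [Matrix.single, eq_comm]
  · rw [if_neg h, Matrix.add_apply]
    simp only [Matrix.single, Matrix.of_apply]
    by_cases h1 : a = i ∧ b = j
    · obtain ⟨rfl, rfl⟩ := h1
      simp [Ne.symm h]
    · by_cases h2 : a = j ∧ b = i
      · obtain ⟨rfl, rfl⟩ := h2
        simp [h]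
      · rw [if_neg, if_neg, if_neg, add_zero] <;> tauto

theorem Sm_symm (i j : Fin m) (t : F) : (Sm i j t).IsSymm := by
  refine Matrix.IsSymm.ext fun a b => ?_
  rw [Sm_apply, Sm_apply]
  exact if_congr (by tauto) rfl rfl

/-- symmetric matrices are sums of symmetric elementary ones -/
theorem symm_induction {P : Matrix (Fin m) (Fin m) F → Prop} (h0 : P 0)
    (hadd : ∀ M N, M.IsSymm → N.IsSymm → P M → P N → P (M + N)) (hS : ∀ i j t, P (Sm i j t))
    {M : Matrix (Fin m) (Fin m) F} (hM : M.IsSymm) : P M := by
  have e : M = ∑ p : Fin m × Fin m, if p.1 ≤ p.2 then Sm p.1 p.2 (M p.1 p.2) else 0 := by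
    ext a b
    rw [Matrix.sum_apply]
    rw [Finset.sum_eq_single (if a ≤ b then (a, b) else (b, a))]
    · by_cases h : a ≤ b
      · simp [h, Sm_apply]
      · simp [h, le_of_not_ge h, Sm_apply, hM.apply a b]
    · intro p _ hp
      by_cases h : p.1 ≤ p.2
      · rw [if_pos h, Sm_apply, if_neg]
        rintro (⟨h1, h2⟩ | ⟨h1, h2⟩)
        · subst h1; subst h2; simp [h] at hp
        · subst h1; subst h2
          rcases eq_or_lt_of_le h with e | e
          · apply hp; simp [Prod.ext_iff, e]
          · apply hp; rw [if_neg (not_le.2 e)]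
      · simp [h]
    · simp
  rw [e]
  refine (Finset.sum_induction _ (fun M => M.IsSymm ∧ P M) (fun A B ha hb => ⟨ha.1.add hb.1, hadd _ _ ha.1 hb.1 ha.2 hb.2⟩)
    ⟨Matrix.isSymm_zero, h0⟩ fun p _ => ?_).2
  split
  · exact ⟨Sm_symm _ _ _, hS _ _ _⟩
  · exact ⟨Matrix.isSymm_zero, h0⟩

namespace Pre

variable {G : Type*} [Group G] (R : Pre F m G)

/-- one factor -/
def upair (p : Fin m × Fin m) : Multiplicative F →* G where
  toFun t := if p.1 ≤ p.2 then R.uu p.1 p.2 t.toAdd else 1
  map_one' := by split_ifs; exacts [R.uu_zero _ _, rfl]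
  map_mul' t u := by split_ifs; exacts [(R.uu_add _ _ _ _).symm, (mul_one _).symm]

theorem upair_comm : Pairwise fun p q => ∀ t u, Commute (R.upair p t) (R.upair q u) := by
  intro p q _ t u
  show Commute (if p.1 ≤ p.2 then R.uu p.1 p.2 t.toAdd else 1) (if q.1 ≤ q.2 then R.uu q.1 q.2 u.toAdd else 1)
  split_ifs
  exacts [R.comm_uu _ _ _ _ _ _, Commute.one_right _, Commute.one_left _, Commute.one_left _]

/-- the element of a symmetric matrix -/
noncomputable def U (M : Matrix (Fin m) (Fin m) F) : G :=
  MonoidHom.noncommPiCoprod R.upair R.upair_comm fun p => Multiplicative.ofAdd (M p.1 p.2)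

theorem U_add (M N : Matrix (Fin m) (Fin m) F) : R.U (M + N) = R.U M * R.U N := by
  rw [U, U, U, ← map_mul]
  rfl

theorem U_zero : R.U 0 = 1 := by
  have := R.U_add 0 0
  rw [add_zero] at this
  exact left_eq_mul.1 this

theorem U_neg (M : Matrix (Fin m) (Fin m) F) : R.U (-M) = (R.U M)⁻¹ :=
  eq_inv_of_mul_eq_one_left (by rw [← R.U_add, neg_add_cancel, R.U_zero])

theorem U_comm (M N : Matrix (Fin m) (Fin m) F) : Commute (R.U M) (R.U N) := by
  rw [commute_iff_eq, ← R.U_add, ← R.U_add, add_comm]

theorem U_Sm (i j : Fin m) (t : F) : R.U (Sm i j t) = R.uu i j t := by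
  wlog h : i ≤ j generalizing i j
  · rw [Sm_comm, R.uu_symm]; exact this j i (le_of_not_ge h)
  rw [U, show (fun p : Fin m × Fin m => Multiplicative.ofAdd (Sm i j t p.1 p.2)) =
    Pi.mulSingle (i, j) (Multiplicative.ofAdd t) * Function.update
      (1 : Fin m × Fin m → Multiplicative F) (j, i) (if i = j then 1 else Multiplicative.ofAdd t) from ?_, map_mul,
    MonoidHom.noncommPiCoprod_mulSingle]
  · show (if i ≤ j then R.uu i j t else 1) * _ = _
    rw [if_pos h, mul_eq_left]
    show MonoidHom.noncommPiCoprod R.upair R.upair_comm (Pi.mulSingle (j, i) _) = 1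
    rw [MonoidHom.noncommPiCoprod_mulSingle]
    by_cases hij : i = j
    · rw [if_pos hij, map_one]
    · exact if_neg (fun h' : j ≤ i => hij (le_antisymm h h'))
  · funext p
    rw [Sm_apply, Pi.mul_apply]
    by_cases hp : p = (i, j)
    · subst hp
      by_cases hij : i = j
      · subst hij; simp
      · simp [hij, Prod.ext_iff]
    · by_cases hq : p = (j, i)
      · subst hq
        simp only [Prod.mk.injEq, not_and] at hp
        have hij : i ≠ j := fun e => hp e.symm e
        simp [hij, Ne.symm hij, Prod.ext_iff]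
      · have : ¬((p.1 = i ∧ p.2 = j) ∨ (p.1 = j ∧ p.2 = i)) := by
          rintro (⟨h1, h2⟩ | ⟨h1, h2⟩)
          · exact hp (Prod.ext h1 h2)
          · exact hq (Prod.ext h1 h2)
        simp [this, hp, hq]

theorem conj_tr_Sm {k l : Fin m} (hkl : k ≠ l) (s : F) (i j : Fin m) (t : F) :
    R.ψ (tA hkl s) * R.uu i j t * (R.ψ (tA hkl s))⁻¹ =
      R.U ((tA hkl s : Matrix (Fin m) (Fin m) F) * Sm i j t * (tA hkl s : Matrix (Fin m) (Fin m) F).transpose) := by
  have hco : (tA hkl s : Matrix (Fin m) (Fin m) F) = 1 + Matrix.single k l s := by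
    rw [SpecialLinearGroup.transvection_coe]
  simp only [hco, Matrix.transpose_add, Matrix.transpose_one, Matrix.transpose_single, add_mul, mul_add, one_mul,
    mul_one]
  by_cases hi : l = i
  · subst hi
    by_cases hj : l = j
    · subst hj
      have e : Sm l l t + Matrix.single k l s * Sm l l t +
          (Sm l l t * Matrix.single l k s + Matrix.single k l s * Sm l l t * Matrix.single l k s) =
          Sm l l t + Sm l k (s * t) + Sm k k (s * s * t) := by
        simp [Sm, hkl.symm, Matrix.single_mul_single_same, mul_comm t s, mul_right_comm s t s]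
        abel
      rw [e, R.U_add, R.U_add, R.U_Sm, R.U_Sm, R.U_Sm]
      exact R.form_uu hkl.symm s t
    · by_cases hk : k = j
      · subst hk
        have e : Sm l k t + Matrix.single k l s * Sm l k t +
            (Sm l k t * Matrix.single l k s + Matrix.single k l s * Sm l k t * Matrix.single l k s) =
            Sm l k t + Sm k k (2 * s * t) := by
          simp [Sm, hj, hkl, hkl.symm, mul_add, add_mul, Matrix.single_mul_single_same,
            Matrix.single_mul_single_of_ne]
          rw [show (2 : F) * s * t = s * t + t * s by ring, Matrix.single_add]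
          abel
        rw [e, R.U_add, R.U_Sm, R.U_Sm]
        exact R.conj_side hj s t
      · have e : Sm l j t + Matrix.single k l s * Sm l j t +
            (Sm l j t * Matrix.single l k s + Matrix.single k l s * Sm l j t * Matrix.single l k s) =
            Sm l j t + Sm k j (s * t) := by
          simp [Sm, hj, hk, hkl, hkl.symm, Ne.symm hj, mul_add, add_mul, Matrix.single_mul_single_same,
            Matrix.single_mul_single_of_ne, mul_comm t s]
          abel
        rw [e, R.U_add, R.U_Sm, R.U_Sm]
        exact R.move_uu hj hkl hk s t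
  · by_cases hj : l = j
    · subst hj
      by_cases hk : k = i
      · subst hk
        have e : Sm k l t + Matrix.single k l s * Sm k l t +
            (Sm k l t * Matrix.single l k s + Matrix.single k l s * Sm k l t * Matrix.single l k s) =
            Sm l k t + Sm k k (2 * s * t) := by
          simp [Sm, hi, hkl, hkl.symm, mul_add, add_mul, Matrix.single_mul_single_same,
            Matrix.single_mul_single_of_ne]
          rw [show (2 : F) * s * t = s * t + t * s by ring, Matrix.single_add]
          abel
        rw [e, R.U_add, R.U_Sm, R.U_Sm, R.uu_symm k l]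
        exact R.conj_side hkl.symm s t
      · have e : Sm i l t + Matrix.single k l s * Sm i l t +
            (Sm i l t * Matrix.single l k s + Matrix.single k l s * Sm i l t * Matrix.single l k s) =
            Sm l i t + Sm k i (s * t) := by
          simp [Sm, hi, hk, hkl, hkl.symm, Ne.symm hi, mul_add, add_mul, Matrix.single_mul_single_same,
            Matrix.single_mul_single_of_ne, mul_comm t s]
          abel
        rw [e, R.U_add, R.U_Sm, R.U_Sm, R.uu_symm i l]
        exact R.move_uu hi hkl hk s t
    · have e : Sm i j t + Matrix.single k l s * Sm i j t +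
          (Sm i j t * Matrix.single l k s + Matrix.single k l s * Sm i j t * Matrix.single l k s) = Sm i j t := by
        by_cases hij : i = j
        · simp [Sm, hij, Matrix.single_mul_single_of_ne, hj, Ne.symm hj]
        · simp [Sm, hij, mul_add, add_mul, Matrix.single_mul_single_of_ne, hi, hj, Ne.symm hi, Ne.symm hj]
      rw [e, R.U_Sm, (R.fix_uu hkl hi hj s t).eq, mul_inv_cancel_right]

/-- `SL m` acts on symmetric matrices by congruence -/
theorem conj_U (hm : 2 ≤ m) (A : SpecialLinearGroup (Fin m) F) {M : Matrix (Fin m) (Fin m) F} (hM : M.IsSymm) :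
    R.ψ A * R.U M * (R.ψ A)⁻¹ = R.U (A.1 * M * A.1.transpose) := by
  haveI : Nontrivial (Fin m) := Fin.nontrivial_iff_two_le.2 hm
  let H : Subgroup (SpecialLinearGroup (Fin m) F) :=
    { carrier := {A | ∀ M : Matrix (Fin m) (Fin m) F, M.IsSymm →
        R.ψ A * R.U M * (R.ψ A)⁻¹ = R.U (A.1 * M * A.1.transpose)}
      one_mem' := fun M _ => by simp
      mul_mem' := fun {A B} ha hb M hM => by
        have hs : (B.1 * M * B.1.transpose).IsSymm := by
          show (B.1 * M * B.1.transpose).transpose = _
          rw [Matrix.transpose_mul, Matrix.transpose_mul, Matrix.transpose_transpose, hM.eq, Matrix.mul_assoc]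
        rw [map_mul, show R.ψ A * R.ψ B * R.U M * (R.ψ A * R.ψ B)⁻¹ =
          R.ψ A * (R.ψ B * R.U M * (R.ψ B)⁻¹) * (R.ψ A)⁻¹ by group, hb M hM, ha _ hs]
        simp [Matrix.mul_assoc]
      inv_mem' := fun {A} ha M hM => by
        have hs : ((A⁻¹).1 * M * (A⁻¹).1.transpose).IsSymm := by
          show ((A⁻¹).1 * M * (A⁻¹).1.transpose).transpose = _
          rw [Matrix.transpose_mul, Matrix.transpose_mul, Matrix.transpose_transpose, hM.eq, Matrix.mul_assoc]
        have h1 := ha _ hs
        have e : A.1 * (A⁻¹).1 = 1 := by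
          rw [← Matrix.SpecialLinearGroup.coe_mul, mul_inv_cancel, Matrix.SpecialLinearGroup.coe_one]
        have e' : A.1 * ((A⁻¹).1 * M * (A⁻¹).1.transpose) * A.1.transpose = M := by
          calc _ = (A.1 * (A⁻¹).1) * M * (A.1 * (A⁻¹).1).transpose := by
                simp [Matrix.transpose_mul, Matrix.mul_assoc]
            _ = M := by rw [e]; simp
        rw [e'] at h1
        rw [map_inv, ← h1]
        group }
  have hH : H = ⊤ := CfsgLib.Classical.closure_transvection_eq_top H fun k l hkl s => by
    show ∀ M : Matrix (Fin m) (Fin m) F, M.IsSymm → _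
    intro M hM
    refine symm_induction (P := fun M => R.ψ (tA hkl s) * R.U M * (R.ψ (tA hkl s))⁻¹ =
      R.U ((tA hkl s).1 * M * (tA hkl s).1.transpose)) ?_ ?_ ?_ hM
    · simp [R.U_zero]
    · intro A B _ _ ha hb
      rw [R.U_add, Matrix.mul_add, Matrix.add_mul, R.U_add, ← ha, ← hb]
      group
    · intro i j t
      rw [R.U_Sm]
      exact R.conj_tr_Sm hkl s i j t
  exact (show A ∈ H from hH ▸ Subgroup.mem_top A) M hM

end Pre

end CfsgLib.Known.SpBounded
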